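import Mathlib
import Cfsg.Prelude.Def_KGroupFacts

/-!
# Twisted products (helper41)

`TwistedProd G C α β` is `G × C` with multiplication
`(g, c) * (g', c') = (g g', c + c' + α g * β g')` for additive characters `α β : G → C`
(bundled as `G →* Multiplicative C`).  It is a central extension of `G` by `C`; for commutative `G`
and `C = ZMod n` it is a stem extension as soon as `α g * β g' - α g' * β g = 1` for some `g g'`.
-/

set_option autoImplicit false

namespace Cfsg.Agent.H41

open Cfsg

universe u v

/-- `G × C` with multiplication twisted by the bilinear cocycle `(g, g') ↦ α g * β g'`. -/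
@[ext]
structure TwistedProd (G : Type u) (C : Type v) [Group G] [CommRing C]
    (α β : G →* Multiplicative C) where
  fst : G
  snd : C

namespace TwistedProd

variable {G : Type u} {C : Type v} [Group G] [CommRing C] {α β : G →* Multiplicative C}

instance : Mul (TwistedProd G C α β) :=
  ⟨fun a b => ⟨a.fst * b.fst, a.snd + b.snd + (α a.fst).toAdd * (β b.fst).toAdd⟩⟩

instance : One (TwistedProd G C α β) := ⟨⟨1, 0⟩⟩

instance : Inv (TwistedProd G C α β) :=
  ⟨fun a => ⟨a.fst⁻¹, -a.snd + (α a.fst).toAdd * (β a.fst).toAdd⟩⟩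

@[simp] theorem mul_fst (a b : TwistedProd G C α β) : (a * b).fst = a.fst * b.fst := rfl
@[simp] theorem mul_snd (a b : TwistedProd G C α β) :
    (a * b).snd = a.snd + b.snd + (α a.fst).toAdd * (β b.fst).toAdd := rfl
@[simp] theorem one_fst : (1 : TwistedProd G C α β).fst = 1 := rfl
@[simp] theorem one_snd : (1 : TwistedProd G C α β).snd = 0 := rfl
@[simp] theorem inv_fst (a : TwistedProd G C α β) : (a⁻¹).fst = a.fst⁻¹ := rfl
@[simp] theorem inv_snd (a : TwistedProd G C α β) :
    (a⁻¹).snd = -a.snd + (α a.fst).toAdd * (β a.fst).toAdd := rfl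

instance : Group (TwistedProd G C α β) where
  mul_assoc a b c := by
    ext
    · simp [mul_assoc]
    · simp only [mul_snd, mul_fst, map_mul, toAdd_mul]; ring
  one_mul a := by
    ext
    · simp
    · simp
  mul_one a := by
    ext
    · simp
    · simp
  inv_mul_cancel a := by
    ext
    · simp
    · simp only [mul_snd, inv_snd, inv_fst, map_inv, toAdd_inv, one_snd]; ring

/-- The projection onto `G`. -/
def proj (G : Type u) (C : Type v) [Group G] [CommRing C] (α β : G →* Multiplicative C) :
    TwistedProd G C α β →* G where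
  toFun a := a.fst
  map_one' := rfl
  map_mul' _ _ := rfl

@[simp] theorem proj_apply (a : TwistedProd G C α β) : proj G C α β a = a.fst := rfl

theorem proj_surjective : Function.Surjective (proj G C α β) := fun g => ⟨⟨g, 0⟩, rfl⟩

theorem mem_ker_proj {a : TwistedProd G C α β} : a ∈ (proj G C α β).ker ↔ a.fst = 1 := Iff.rfl

theorem ker_proj_le_center : (proj G C α β).ker ≤ Subgroup.center (TwistedProd G C α β) := by
  intro a ha
  rw [mem_ker_proj] at ha
  rw [Subgroup.mem_center_iff]
  intro b
  ext
  · simp [ha]
  · simp only [mul_snd, ha, map_one, toAdd_one, mul_zero, zero_mul]; ring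

/-- The kernel of the projection is `C`. -/
def kerEquiv : (proj G C α β).ker ≃* Multiplicative C where
  toFun a := Multiplicative.ofAdd a.1.snd
  invFun c := ⟨⟨1, c.toAdd⟩, rfl⟩
  left_inv a := by
    apply Subtype.ext
    ext
    · exact (mem_ker_proj.1 a.2).symm
    · rfl
  right_inv c := rfl
  map_mul' a b := by
    have ha := mem_ker_proj.1 a.2
    show Multiplicative.ofAdd (a.1 * b.1).snd = _
    rw [mul_snd, ha]
    simp

instance [Finite G] [Finite C] : Finite (TwistedProd G C α β) :=
  Finite.of_injective (fun a : TwistedProd G C α β => (a.fst, a.snd)) (by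
    intro a b h
    ext
    · exact congrArg Prod.fst h
    · exact congrArg Prod.snd h)

theorem pow_one_snd (c : C) (k : ℕ) :
    (⟨1, c⟩ : TwistedProd G C α β) ^ k = ⟨1, k * c⟩ := by
  induction k with
  | zero => ext <;> simp
  | succ k ih =>
    rw [pow_succ, ih]
    ext
    · simp
    · simp only [mul_snd, map_one, toAdd_one, zero_mul, add_zero]; push_cast; ring

end TwistedProd

namespace TwistedProd

variable {G : Type u} {C : Type v} [CommGroup G] [CommRing C] {α β : G →* Multiplicative C}

/-- For commutative `G`, the commutator of `(g, 0)` and `(g', 0)`. -/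
theorem commutator_mk (g g' : G) :
    (⟨g, 0⟩ : TwistedProd G C α β) * ⟨g', 0⟩ * (⟨g, 0⟩ : TwistedProd G C α β)⁻¹ *
        (⟨g', 0⟩ : TwistedProd G C α β)⁻¹ =
      (⟨1, (α g).toAdd * (β g').toAdd - (α g').toAdd * (β g).toAdd⟩ : TwistedProd G C α β) := by
  ext
  · simp
  · simp only [mul_snd, mul_fst, inv_snd, inv_fst, map_mul, map_inv, toAdd_mul, toAdd_inv]; ring

/-- Stem criterion. -/
theorem isStemExtension_proj {G : Type u} [CommGroup G] (n : ℕ) [NeZero n]
    {α β : G →* Multiplicative (ZMod n)} (g g' : G)
    (h : (α g).toAdd * (β g').toAdd - (α g').toAdd * (β g).toAdd = 1) :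
    IsStemExtension (proj G (ZMod n) α β) := by
  refine ⟨proj_surjective, ker_proj_le_center, ?_⟩
  intro a ha
  rw [mem_ker_proj] at ha
  have h1 : (⟨1, 1⟩ : TwistedProd G (ZMod n) α β) ∈ commutator (TwistedProd G (ZMod n) α β) := by
    rw [← h, ← commutator_mk, commutator_def]
    exact Subgroup.commutator_mem_commutator (Subgroup.mem_top _) (Subgroup.mem_top _)
  have h2 : a = (⟨1, 1⟩ : TwistedProd G (ZMod n) α β) ^ (ZMod.val a.snd) := by
    rw [pow_one_snd]
    ext
    · exact ha
    · simp
  rw [h2]
  exact Subgroup.pow_mem _ h1 _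

end TwistedProd

end Cfsg.Agent.H41
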