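import Mathlib
import Cfsg.Agent.H41.Twisted
import Cfsg.Agent.H41.Stem

/-!
# Non-cyclic finite abelian groups have a nontrivial stem extension (helper41)
-/

set_option autoImplicit false

namespace Cfsg.Agent.H41

open Cfsg

universe u

theorem isCyclic_pi_zmod_of_coprime {ι : Type} [Fintype ι] (n : ι → ℕ)
    (h : Pairwise (Function.onFun Nat.Coprime n)) :
    IsCyclic ((i : ι) → Multiplicative (ZMod (n i))) := by
  have e1 : Multiplicative (ZMod (∏ i, n i)) ≃* Multiplicative ((i : ι) → ZMod (n i)) :=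
    AddEquiv.toMultiplicative (ZMod.prodEquivPi n h).toAddEquiv
  have e2 := e1.trans (MulEquiv.piMultiplicative (fun i => ZMod (n i)))
  exact isCyclic_of_surjective e2.toMonoidHom e2.surjective

/-- A non-cyclic finite abelian group has two "independent" characters to some `ZMod p`. -/
theorem exists_characters_of_not_isCyclic (G : Type u) [CommGroup G] [Finite G]
    (h : ¬ IsCyclic G) :
    ∃ (p : ℕ) (_ : p.Prime) (α β : G →* Multiplicative (ZMod p)) (g g' : G),
      (α g).toAdd = 1 ∧ (β g').toAdd = 1 ∧ (α g').toAdd = 0 ∧ (β g).toAdd = 0 := by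
  classical
  obtain ⟨ι, _, n, hn, ⟨e⟩⟩ := CommGroup.equiv_prod_multiplicative_zmod_of_finite G
  have h2 : ¬ Pairwise (Function.onFun Nat.Coprime n) := by
    intro hp
    have := isCyclic_pi_zmod_of_coprime n hp
    exact h (isCyclic_of_surjective e.symm.toMonoidHom e.symm.surjective)
  rw [Pairwise] at h2
  push Not at h2
  obtain ⟨i, j, hij, hc⟩ := h2
  have hc' : ¬ Nat.Coprime (n i) (n j) := hc
  obtain ⟨p, hp, hpi, hpj⟩ := Nat.Prime.not_coprime_iff_dvd.1 hc'
  let ci : Multiplicative (ZMod (n i)) →* Multiplicative (ZMod p) :=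
    AddMonoidHom.toMultiplicative (ZMod.castHom hpi (ZMod p)).toAddMonoidHom
  let cj : Multiplicative (ZMod (n j)) →* Multiplicative (ZMod p) :=
    AddMonoidHom.toMultiplicative (ZMod.castHom hpj (ZMod p)).toAddMonoidHom
  let α : G →* Multiplicative (ZMod p) :=
    ci.comp ((Pi.evalMonoidHom (fun i => Multiplicative (ZMod (n i))) i).comp e.toMonoidHom)
  let β : G →* Multiplicative (ZMod p) :=
    cj.comp ((Pi.evalMonoidHom (fun i => Multiplicative (ZMod (n i))) j).comp e.toMonoidHom)
  refine ⟨p, hp, α, β, e.symm (Pi.mulSingle i (Multiplicative.ofAdd 1)),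
    e.symm (Pi.mulSingle j (Multiplicative.ofAdd 1)), ?_, ?_, ?_, ?_⟩
  · show ZMod.castHom hpi (ZMod p)
      (Multiplicative.toAdd (e (e.symm (Pi.mulSingle i (Multiplicative.ofAdd 1))) i)) = 1
    rw [MulEquiv.apply_symm_apply, Pi.mulSingle_eq_same, toAdd_ofAdd, map_one]
  · show ZMod.castHom hpj (ZMod p)
      (Multiplicative.toAdd (e (e.symm (Pi.mulSingle j (Multiplicative.ofAdd 1))) j)) = 1
    rw [MulEquiv.apply_symm_apply, Pi.mulSingle_eq_same, toAdd_ofAdd, map_one]
  · show ZMod.castHom hpi (ZMod p)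
      (Multiplicative.toAdd (e (e.symm (Pi.mulSingle j (Multiplicative.ofAdd 1))) i)) = 0
    rw [MulEquiv.apply_symm_apply, Pi.mulSingle_eq_of_ne hij, toAdd_one, map_zero]
  · show ZMod.castHom hpj (ZMod p)
      (Multiplicative.toAdd (e (e.symm (Pi.mulSingle i (Multiplicative.ofAdd 1))) j)) = 0
    rw [MulEquiv.apply_symm_apply, Pi.mulSingle_eq_of_ne hij.symm, toAdd_one, map_zero]

/-- A non-cyclic finite abelian group has a finite stem extension with kernel `ZMod p`. -/
theorem exists_stem_of_not_isCyclic (G : Type u) [CommGroup G] [Finite G] (h : ¬ IsCyclic G) :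
    ∃ (p : ℕ) (_ : p.Prime) (Γ : Type u) (_ : Group Γ) (_ : Finite Γ) (σ : Γ →* G),
      IsStemExtension σ ∧ Nonempty (σ.ker ≃* Multiplicative (ZMod p)) := by
  obtain ⟨p, hp, α, β, g, g', h1, h2, h3, h4⟩ := exists_characters_of_not_isCyclic G h
  have : NeZero p := ⟨hp.ne_zero⟩
  refine ⟨p, hp, TwistedProd G (ZMod p) α β, inferInstance, inferInstance,
    TwistedProd.proj _ _ α β, ?_, ⟨TwistedProd.kerEquiv⟩⟩
  apply TwistedProd.isStemExtension_proj p g g'
  rw [h1, h2, h3, h4]; ring

end Cfsg.Agent.H41
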