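import Mathlib

set_option autoImplicit false

namespace Cfsg.Agent.H41

open Equiv Equiv.Perm

section ThreeCycles

variable {α : Type*} [Fintype α] [DecidableEq α]

theorem three_cube {s : Perm α} (hs : s.IsThreeCycle) (x : α) : s (s (s x)) = x := by
  have h : s ^ 3 = 1 := by rw [← hs.orderOf]; exact pow_orderOf_eq_one s
  have := congrArg (fun f : Perm α => f x) h
  simpa [pow_succ, Perm.mul_apply] using this

theorem three_support {s : Perm α} (hs : s.IsThreeCycle) {x : α} (hx : s x ≠ x) :
    s.support = {x, s x, s (s x)} := by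
  symm
  apply Finset.eq_of_subset_of_card_le
  · intro y hy
    simp only [Finset.mem_insert, Finset.mem_singleton] at hy
    rw [Perm.mem_support]
    rcases hy with rfl | rfl | rfl
    · exact hx
    · intro h; exact hx (s.injective h)
    · intro h; exact hx (s.injective (s.injective h))
  · rw [hs.card_support]
    have h1 : x ≠ s x := fun h => hx h.symm
    have h2 : s x ≠ s (s x) := fun h => hx (s.injective h).symm
    have h3 : x ≠ s (s x) := by
      intro h
      have := three_cube hs x
      rw [← h] at this
      exact hx this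
    rw [Finset.card_insert_of_notMem, Finset.card_insert_of_notMem, Finset.card_singleton]
    · simpa using h2
    · simp [h1, h3]

theorem three_fix {s : Perm α} (hs : s.IsThreeCycle) {x : α} (hx : s x ≠ x) {y : α}
    (h1 : y ≠ x) (h2 : y ≠ s x) (h3 : y ≠ s (s x)) : s y = y := by
  by_contra h
  have : y ∈ s.support := Perm.mem_support.2 h
  rw [three_support hs hx] at this
  simp [h1, h2, h3] at this

theorem three_mem {s : Perm α} (hs : s.IsThreeCycle) {x : α} (hx : s x ≠ x) {y : α}
    (hy : s y ≠ y) : y = x ∨ y = s x ∨ y = s (s x) := by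
  by_contra h
  push Not at h
  exact hy (three_fix hs hx h.1 h.2.1 h.2.2)

theorem three_ne_one {s : Perm α} (hs : s.IsThreeCycle) : s ≠ 1 := by
  intro h
  have := hs.orderOf
  rw [h, orderOf_one] at this
  omega

/-- Two 3-cycles whose product is an involution share an arc. -/
theorem lemmaA {s s' : Perm α} (hs : s.IsThreeCycle) (hs' : s'.IsThreeCycle)
    (h1 : s * s' ≠ 1) (h2 : (s * s') * (s * s') = 1) :
    ∃ e d, s e ≠ e ∧ s d = d ∧ s' d = e ∧ s' e = s e ∧ s' (s e) = d := by
  have rel : ∀ p, s (s' (s (s' p))) = p := fun p => by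
    have := congrArg (fun f : Perm α => f p) h2
    simpa [Perm.mul_apply] using this
  have hd : ∃ d, s' d ≠ d ∧ s d = d := by
    by_contra hcon
    push Not at hcon
    have hsub : s'.support ⊆ s.support := fun d hd => by
      rw [Perm.mem_support] at hd ⊢; exact hcon d hd
    have hsupp : (s * s').support ⊆ s.support := by
      refine (Perm.support_mul_le s s').trans ?_
      exact sup_le le_rfl hsub
    have hcard : (s * s').support.card ≤ 3 := by
      rw [← hs.card_support]; exact Finset.card_le_card hsupp
    have hord : orderOf (s * s') = 2 := orderOf_eq_prime (by rw [pow_two]; exact h2) h1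
    obtain ⟨k, hk⟩ := Perm.cycleType_prime_order (σ := s * s') (by rw [hord]; exact Nat.prime_two)
    rw [hord] at hk
    have hsum : (s * s').cycleType.sum = 2 * (k+1) := by rw [hk]; simp; ring
    rw [Perm.sum_cycleType] at hsum
    have hk0 : k = 0 := by omega
    subst hk0
    have hsign : Perm.sign (s * s') = -1 := by
      rw [Perm.sign_of_cycleType, hk]; simp; exact Odd.neg_one_pow (by decide)
    rw [Perm.sign_mul, hs.sign, hs'.sign] at hsign
    simp at hsign
  obtain ⟨d, hd1, hd2⟩ := hd
  have hcube := three_cube hs' d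
  have hse : s (s' d) ≠ s' d := by
    intro h
    have r := rel d
    rw [h] at r
    have : s' (s' d) = d := s.injective (r.trans hd2.symm)
    rw [this] at hcube
    exact hd1 hcube
  have r := rel d
  have h3 : s' (s (s' d)) = d := s.injective (r.trans hd2.symm)
  refine ⟨s' d, d, hse, hd2, rfl, ?_, h3⟩
  exact s'.injective (hcube.trans h3.symm)

end ThreeCycles

section Assembly

variable {α : Type*} [Fintype α] [DecidableEq α]

/-- the 3-cycle `o → i → k → o` -/
def tc (o i k : α) : Perm α := swap o i * swap i k

omit [Fintype α] in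
theorem tc_apply (o i k x : α) :
    tc o i k x = if x = i then (if k = o then i else if k = i then o else k)
      else if x = k then o else if x = o then i else x := by
  unfold tc
  simp only [Perm.mul_apply, swap_apply_def]
  grind

theorem tc_isThreeCycle {o i k : α} (hoi : o ≠ i) (hko : k ≠ o) (hki : k ≠ i) :
    (tc o i k).IsThreeCycle := by
  have : tc o i k = swap i o * swap i k := by
    unfold tc; rw [swap_comm]
  rw [this]
  exact isThreeCycle_swap_mul_swap_same hoi.symm hki.symm hko.symm

theorem exists_two_outside {o i : α} (hcard : 4 ≤ Fintype.card α) :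
    ∃ k0 k1 : α, k0 ≠ o ∧ k0 ≠ i ∧ k1 ≠ o ∧ k1 ≠ i ∧ k0 ≠ k1 := by
  have h1 : ({o, i} : Finset α).card < (Finset.univ : Finset α).card := by
    rw [Finset.card_univ]
    exact lt_of_le_of_lt (Finset.card_le_two) (by omega)
  obtain ⟨k0, -, hk0⟩ := Finset.exists_mem_notMem_of_card_lt_card h1
  have h2 : ({o, i, k0} : Finset α).card < (Finset.univ : Finset α).card := by
    rw [Finset.card_univ]
    exact lt_of_le_of_lt (Finset.card_le_three) (by omega)
  obtain ⟨k1, -, hk1⟩ := Finset.exists_mem_notMem_of_card_lt_card h2
  simp only [Finset.mem_insert, Finset.mem_singleton, not_or] at hk0 hk1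
  exact ⟨k0, k1, hk0.1, hk0.2, hk1.1, hk1.2.1, fun h => hk1.2.2 h.symm⟩

theorem assembly {o i : α} (hoi : o ≠ i) (hcard : 4 ≤ Fintype.card α) (f : α → Perm α)
    (hf3 : ∀ k, k ≠ o → k ≠ i → (f k).IsThreeCycle)
    (hf1 : ∀ k l, k ≠ o → k ≠ i → l ≠ o → l ≠ i → k ≠ l → f k * f l ≠ 1)
    (hf2 : ∀ k l, k ≠ o → k ≠ i → l ≠ o → l ≠ i → k ≠ l → (f k * f l) * (f k * f l) = 1) :
    ∃ σ : Perm α, ∀ k, k ≠ o → k ≠ i → f k = σ * tc o i k * σ⁻¹ := by
  obtain ⟨k0, k1, hk0o, hk0i, hk1o, hk1i, hk01⟩ := exists_two_outside (o := o) (i := i) hcard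
  have T0 := hf3 k0 hk0o hk0i
  have T1 := hf3 k1 hk1o hk1i
  obtain ⟨a, c1, ha, hc1, h10, h11, h12⟩ :=
    lemmaA T0 T1 (hf1 k0 k1 hk0o hk0i hk1o hk1i hk01) (hf2 k0 k1 hk0o hk0i hk1o hk1i hk01)
  have cube0 := three_cube T0
  have cube1 := three_cube T1
  have inj0 := (f k0).injective
  have inj1 := (f k1).injective
  -- key: all `f k` map `a` to `f k0 a`
  have key : ∀ k, k ≠ o → k ≠ i → f k a = f k0 a := by
    intro k hko hki
    by_cases hkk0 : k = k0
    · subst hkk0; rfl
    by_cases hkk1 : k = k1
    · subst hkk1; exact h11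
    have T := hf3 k hko hki
    have cube := three_cube T
    have inj := (f k).injective
    obtain ⟨e, d, he, hd, hde, hee, hed⟩ :=
      lemmaA T0 T (hf1 k0 k hk0o hk0i hko hki (Ne.symm hkk0)) (hf2 k0 k hk0o hk0i hko hki (Ne.symm hkk0))
    obtain ⟨e', d', he', hd', hde', hee', hed'⟩ :=
      lemmaA T1 T (hf1 k1 k hk1o hk1i hko hki (Ne.symm hkk1)) (hf2 k1 k hk1o hk1i hko hki (Ne.symm hkk1))
    have ha1 : f k1 a ≠ a := by rw [h11]; exact ha
    have m0 := three_mem T0 ha he
    have m1 := three_mem T1 ha1 he'
    have mk : ∀ y, f k y ≠ y → y = e ∨ y = f k e ∨ y = f k (f k e) := fun y hy =>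
      three_mem T (x := e) (by rw [hee]; exact he) hy
    have mk' : ∀ y, f k y ≠ y → y = e' ∨ y = f k e' ∨ y = f k (f k e') := fun y hy =>
      three_mem T (x := e') (by rw [hee']; exact he') hy
    have c0a := cube0 a
    have c1a := cube1 a
    have ce := cube e
    have ce' := cube e'
    have q1 := mk a
    have q2 := mk (f k0 a)
    have q3 := mk c1
    have q4 := mk' a
    have q5 := mk' (f k0 a)
    have q6 := mk' (f k0 (f k0 a))
    grind
  have hab : f k0 a ≠ a := ha
  -- structure of each `f k`
  have st : ∀ k, k ≠ o → k ≠ i → f k a = f k0 a ∧ f k (f k (f k0 a)) = a ∧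
      f k (f k0 a) ≠ a ∧ f k (f k0 a) ≠ f k0 a := by
    intro k hko hki
    have hk := key k hko hki
    have cube := three_cube (hf3 k hko hki) a
    have inj := (f k).injective
    refine ⟨hk, ?_, ?_, ?_⟩
    · rw [hk] at cube; exact cube
    · intro h
      rw [hk, h] at cube
      rw [hk] at cube
      exact hab cube
    · intro h
      exact hab (inj (h.trans hk.symm))
  have cinj : ∀ k l, k ≠ o → k ≠ i → l ≠ o → l ≠ i → f k (f k0 a) = f l (f k0 a) → k = l := by
    intro k l hko hki hlo hli h
    by_contra hkl
    have Tk := hf3 k hko hki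
    have Tl := hf3 l hlo hli
    have hka : f k a ≠ a := by rw [key k hko hki]; exact hab
    have hla : f l a ≠ a := by rw [key l hlo hli]; exact hab
    have heq : f k = f l := by
      ext x
      by_cases hx : f k x = x
      · by_cases hx' : f l x = x
        · rw [hx, hx']
        · exfalso
          have m := three_mem Tl hla hx'
          rw [key l hlo hli, ← h] at m
          have := (st k hko hki)
          rcases m with rfl | rfl | rfl
          · exact hka hx
          · rw [← key k hko hki] at hx
            exact hka ((f k).injective hx)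
          · have h2 := (f k).injective hx
            exact this.2.2.2 h2
      · have m := three_mem Tk hka hx
        rw [key k hko hki] at m
        rcases m with rfl | rfl | rfl
        · rw [key k hko hki, key l hlo hli]
        · exact h
        · rw [(st k hko hki).2.1, h, (st l hlo hli).2.1]
    have h2 := hf2 k l hko hki hlo hli hkl
    rw [← heq] at h2
    have := congrArg (fun g : Perm α => g a) h2
    simp only [Perm.mul_apply, Perm.one_apply] at this
    rw [three_cube Tk] at this
    exact hka this
  -- the permutation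
  let σ' : α → α := fun x => if x = o then a else if x = i then f k0 a else f x (f k0 a)
  have hσ'inj : Function.Injective σ' := by
    intro x y hxy
    simp only [σ'] at hxy
    by_cases hxo : x = o
    · by_cases hyo : y = o
      · rw [hxo, hyo]
      · by_cases hyi : y = i
        · rw [if_pos hxo, if_neg hyo, if_pos hyi] at hxy
          exact absurd hxy.symm hab
        · rw [if_pos hxo, if_neg hyo, if_neg hyi] at hxy
          exact absurd hxy.symm (st y hyo hyi).2.2.1
    · by_cases hxi : x = i
      · by_cases hyo : y = o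
        · rw [if_neg hxo, if_pos hxi, if_pos hyo] at hxy
          exact absurd hxy hab
        · by_cases hyi : y = i
          · rw [hxi, hyi]
          · rw [if_neg hxo, if_pos hxi, if_neg hyo, if_neg hyi] at hxy
            exact absurd hxy.symm (st y hyo hyi).2.2.2
      · by_cases hyo : y = o
        · rw [if_neg hxo, if_neg hxi, if_pos hyo] at hxy
          exact absurd hxy (st x hxo hxi).2.2.1
        · by_cases hyi : y = i
          · rw [if_neg hxo, if_neg hxi, if_neg hyo, if_pos hyi] at hxy
            exact absurd hxy (st x hxo hxi).2.2.2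
          · rw [if_neg hxo, if_neg hxi, if_neg hyo, if_neg hyi] at hxy
            exact cinj x y hxo hxi hyo hyi hxy
  let σ : Perm α := Equiv.ofBijective σ' (Finite.injective_iff_bijective.1 hσ'inj)
  have hσ : ∀ x, σ x = σ' x := fun x => rfl
  refine ⟨σ, fun k hko hki => ?_⟩
  ext x
  obtain ⟨y, rfl⟩ := σ.surjective x
  have e1 : (σ * tc o i k * σ⁻¹) (σ y) = σ (tc o i k y) := by
    simp only [Perm.mul_apply]
    rw [show σ⁻¹ (σ y) = y from σ.symm_apply_apply y]
  rw [e1]
  have Tk := hf3 k hko hki
  have hka : f k a ≠ a := by rw [key k hko hki]; exact hab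
  have S := st k hko hki
  rw [tc_apply, hσ, hσ]
  simp only [σ']
  have fx : ∀ z, z ≠ a → z ≠ f k a → z ≠ f k (f k a) → f k z = z :=
    fun z h1 h2 h3 => three_fix Tk hka h1 h2 h3
  have hst := st y
  have hcy := cinj y k
  have fxy := fx (f y (f k0 a))
  grind

end Assembly

section Generation

variable {α : Type*} [Fintype α] [DecidableEq α]

omit [Fintype α] in
theorem tc_inv (o i k : α) : (tc o i k)⁻¹ = tc k i o := by
  unfold tc
  rw [mul_inv_rev, swap_inv, swap_inv, swap_comm i k, swap_comm o i]

theorem three_eq_of {s g : Perm α} (hs : s.IsThreeCycle) {p : α} (hp : s p ≠ p)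
    (h1 : g p = s p) (h2 : g (s p) = s (s p)) (h3 : g (s (s p)) = p)
    (h4 : ∀ z, z ≠ p → z ≠ s p → z ≠ s (s p) → g z = z) : s = g := by
  ext x
  by_cases hx1 : x = p
  · rw [hx1, h1]
  by_cases hx2 : x = s p
  · rw [hx2, h2]
  by_cases hx3 : x = s (s p)
  · rw [hx3, h3, three_cube hs]
  rw [h4 x hx1 hx2 hx3, three_fix hs hp hx1 hx2 hx3]

theorem closure_tc {o i : α} (hoi : o ≠ i) :
    Subgroup.closure {g : Perm α | ∃ k, k ≠ o ∧ k ≠ i ∧ g = tc o i k} = alternatingGroup α := by
  apply le_antisymm
  · rw [Subgroup.closure_le]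
    rintro g ⟨k, hko, hki, rfl⟩
    exact (tc_isThreeCycle hoi hko hki).mem_alternatingGroup
  · rw [← Equiv.Perm.closure_three_cycles_eq_alternating, Subgroup.closure_le]
    intro s hs
    have hs : s.IsThreeCycle := hs
    set N := Subgroup.closure {g : Perm α | ∃ k, k ≠ o ∧ k ≠ i ∧ g = tc o i k} with hN
    have mem : ∀ k, k ≠ o → k ≠ i → tc o i k ∈ N :=
      fun k h1 h2 => Subgroup.subset_closure ⟨k, h1, h2, rfl⟩
    have cube := three_cube hs
    have inj := s.injective
    show s ∈ N
    by_cases ho : s o = o
    · by_cases hi : s i = i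
      · -- both fixed
        obtain ⟨p, hp⟩ : ∃ p, s p ≠ p := by
          by_contra h
          push Not at h
          exact three_ne_one hs (Equiv.ext h)
        have hpo : p ≠ o := by rintro rfl; exact hp ho
        have hpi : p ≠ i := by rintro rfl; exact hp hi
        have hqo : s p ≠ o := by intro h; rw [← h] at ho; exact hp (inj ho)
        have hqi : s p ≠ i := by intro h; rw [← h] at hi; exact hp (inj hi)
        have hro : s (s p) ≠ o := by intro h; rw [← h] at ho; exact hp (inj (inj ho))
        have hri : s (s p) ≠ i := by intro h; rw [← h] at hi; exact hp (inj (inj hi))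
        have e : s = tc o i (s p) * (tc o i p)⁻¹ * tc o i (s (s p)) * (tc o i (s p))⁻¹ := by
          have c := cube p
          apply three_eq_of hs hp
          · simp only [Perm.mul_apply, tc_inv, tc_apply]; grind
          · simp only [Perm.mul_apply, tc_inv, tc_apply]; grind
          · simp only [Perm.mul_apply, tc_inv, tc_apply]; grind
          · intro z hz1 hz2 hz3
            simp only [Perm.mul_apply, tc_inv, tc_apply]; grind
        rw [e]
        exact N.mul_mem (N.mul_mem (N.mul_mem (mem _ hqo hqi) (N.inv_mem (mem _ hpo hpi)))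
          (mem _ hro hri)) (N.inv_mem (mem _ hqo hqi))
      · -- o fixed, i moved
        have hpo : s i ≠ o := by intro h; rw [← h] at ho; exact hi (inj ho)
        have hqo : s (s i) ≠ o := by intro h; rw [← h] at ho; exact hi (inj (inj ho))
        have hqi : s (s i) ≠ i := by
          intro h
          have c := cube i
          rw [h] at c
          exact hi c
        have e : s = (tc o i (s (s i)))⁻¹ * tc o i (s i) := by
          have c := cube i
          apply three_eq_of hs hi
          · simp only [Perm.mul_apply, tc_inv, tc_apply]; grind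
          · simp only [Perm.mul_apply, tc_inv, tc_apply]; grind
          · simp only [Perm.mul_apply, tc_inv, tc_apply]; grind
          · intro z hz1 hz2 hz3
            simp only [Perm.mul_apply, tc_inv, tc_apply]; grind
        rw [e]
        exact N.mul_mem (N.inv_mem (mem _ hqo hqi)) (mem _ hpo hi)
    · by_cases hi : s i = i
      · -- o moved, i fixed
        have hpi : s o ≠ i := by intro h; rw [← h] at hi; exact ho (inj hi)
        have hqi : s (s o) ≠ i := by intro h; rw [← h] at hi; exact ho (inj (inj hi))
        have hqo : s (s o) ≠ o := by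
          intro h
          have c := cube o
          rw [h] at c
          exact ho c
        have e : s = tc o i (s (s o)) * (tc o i (s o))⁻¹ := by
          have c := cube o
          apply three_eq_of hs ho
          · simp only [Perm.mul_apply, tc_inv, tc_apply]; grind
          · simp only [Perm.mul_apply, tc_inv, tc_apply]; grind
          · simp only [Perm.mul_apply, tc_inv, tc_apply]; grind
          · intro z hz1 hz2 hz3
            simp only [Perm.mul_apply, tc_inv, tc_apply]; grind
        rw [e]
        exact N.mul_mem (mem _ hqo hqi) (N.inv_mem (mem _ ho hpi))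
      · -- both moved
        have hqo : s (s o) ≠ o := by
          intro h
          have c := cube o
          rw [h] at c
          exact ho c
        by_cases hoi' : s o = i
        · have e : s = tc o i (s i) := by
            have c := cube o
            apply three_eq_of hs ho
            · simp only [tc_apply]; grind
            · simp only [tc_apply]; grind
            · simp only [tc_apply]; grind
            · intro z hz1 hz2 hz3
              simp only [tc_apply]; grind
          rw [e]
          exact mem _ (by rw [← hoi']; exact hqo) hi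
        · have hm := three_mem hs ho hi
          have hi2 : i = s (s o) := by
            rcases hm with h | h | h
            · exact absurd h.symm hoi
            · exact absurd h.symm hoi'
            · exact h
          have e : s = (tc o i (s o))⁻¹ := by
            have c := cube o
            apply three_eq_of hs ho
            · simp only [tc_inv, tc_apply]; grind
            · simp only [tc_inv, tc_apply]; grind
            · simp only [tc_inv, tc_apply]; grind
            · intro z hz1 hz2 hz3
              simp only [tc_inv, tc_apply]; grind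
          rw [e]
          exact N.inv_mem (mem _ ho hoi')

end Generation

section Counting

theorem fact_three (n : ℕ) :
    (n + 3).factorial = (n + 3) * ((n + 2) * ((n + 1) * n.factorial)) := by
  rw [show n + 3 = n + 1 + 1 + 1 from rfl, Nat.factorial_succ, Nat.factorial_succ,
    Nat.factorial_succ]

theorem fact_ineq_step (m i : ℕ)
    (h : 2 * (m.factorial * 3 ^ (i + 1) * (i + 1).factorial) < 3 * (m + 3 * i).factorial) :
    2 * (m.factorial * 3 ^ (i + 2) * (i + 2).factorial) < 3 * (m + 3 * (i + 1)).factorial := by
  have e1 : m + 3 * (i + 1) = (m + 3 * i) + 3 := by ring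
  have e2 : (i + 2).factorial = (i + 2) * (i + 1).factorial := Nat.factorial_succ (i + 1)
  rw [e1, fact_three, e2]
  generalize hX : m.factorial * 3 ^ (i + 1) * (i + 1).factorial = X at h
  generalize hY : (m + 3 * i).factorial = Y at h ⊢
  have e3 : 2 * (m.factorial * 3 ^ (i + 2) * ((i + 2) * (i + 1).factorial)) = 3 * (i + 2) * (2 * X) := by
    rw [← hX]; ring
  rw [e3]
  have hc : 3 * (i + 2) ≤ (m + 3 * i + 3) * ((m + 3 * i + 2) * (m + 3 * i + 1)) := by
    have h1 : 3 * (i + 1) ≤ m + 3 * i + 3 := by omega
    have h2 : 2 ≤ (m + 3 * i + 2) * (m + 3 * i + 1) := by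
      have : 2 * 1 ≤ (m + 3 * i + 2) * (m + 3 * i + 1) := Nat.mul_le_mul (by omega) (by omega)
      omega
    calc 3 * (i + 2) ≤ 3 * (i + 1) * 2 := by omega
      _ ≤ (m + 3 * i + 3) * ((m + 3 * i + 2) * (m + 3 * i + 1)) := Nat.mul_le_mul h1 h2
  calc 3 * (i + 2) * (2 * X) < 3 * (i + 2) * (3 * Y) :=
        Nat.mul_lt_mul_of_pos_left h (by omega)
    _ = 3 * (3 * (i + 2) * Y) := by ring
    _ ≤ 3 * ((m + 3 * i + 3) * ((m + 3 * i + 2) * (m + 3 * i + 1)) * Y) :=
        Nat.mul_le_mul_left _ (Nat.mul_le_mul_right _ hc)
    _ = 3 * ((m + 3 * i + 3) * ((m + 3 * i + 2) * ((m + 3 * i + 1) * Y))) := by ring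

theorem fact_ineq (m i : ℕ) (hi : 1 ≤ i) (h : 1 ≤ m ∨ 2 ≤ i) :
    2 * (m.factorial * 3 ^ (i + 1) * (i + 1).factorial) < 3 * (m + 3 * i).factorial := by
  by_cases hm : 1 ≤ m
  · clear h
    induction i, hi using Nat.le_induction with
    | base =>
      have e1 : m + 3 * 1 = m + 3 := by ring
      rw [e1, fact_three]
      have hpos := Nat.factorial_pos m
      have hc : 24 ≤ (m + 3) * ((m + 2) * (m + 1)) := by
        have : 4 * (3 * 2) ≤ (m + 3) * ((m + 2) * (m + 1)) :=
          Nat.mul_le_mul (by omega) (Nat.mul_le_mul (by omega) (by omega))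
        omega
      have e2 : (1 + 1).factorial = 2 := rfl
      rw [e2]
      generalize m.factorial = F at hpos ⊢
      calc 2 * (F * 3 ^ (1 + 1) * 2) = 36 * F := by ring
        _ < 3 * (24 * F) := by omega
        _ ≤ 3 * ((m + 3) * ((m + 2) * (m + 1)) * F) :=
            Nat.mul_le_mul_left _ (Nat.mul_le_mul_right _ hc)
        _ = 3 * ((m + 3) * ((m + 2) * ((m + 1) * F))) := by ring
    | succ i hi ih => exact fact_ineq_step m i ih
  · have hm0 : m = 0 := by omega
    subst hm0
    have hi2 : 2 ≤ i := by omega
    clear h hi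
    induction i, hi2 using Nat.le_induction with
    | base => decide
    | succ i hi ih => exact fact_ineq_step 0 i ih

end Counting

section Centralizers

variable {G : Type*} [Group G]

/-- The centraliser computed inside a subgroup. -/
theorem centralizer_subgroup_eq (A : Subgroup G) (x : A) :
    (Subgroup.centralizer {x} : Subgroup A) = (Subgroup.centralizer {(x : G)}).subgroupOf A := by
  ext y
  simp only [Subgroup.mem_subgroupOf, Subgroup.mem_centralizer_singleton_iff, Subtype.ext_iff,
    Subgroup.coe_mul]

/-- `H.subgroupOf K` and `K.subgroupOf H` are in bijection. -/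
def subgroupOfSwap (H K : Subgroup G) : H.subgroupOf K ≃ K.subgroupOf H where
  toFun x := ⟨⟨x.1.1, x.2⟩, x.1.2⟩
  invFun y := ⟨⟨y.1.1, y.2⟩, y.1.2⟩
  left_inv _ := rfl
  right_inv _ := rfl

theorem card_centralizer_subgroup_le [Finite G] (A : Subgroup G) (x : A) :
    Nat.card (Subgroup.centralizer {x} : Subgroup A) ≤ Nat.card (Subgroup.centralizer {(x : G)}) := by
  rw [centralizer_subgroup_eq, Nat.card_congr (subgroupOfSwap _ _)]
  exact Nat.card_le_card_of_injective _ (Subtype.val_injective)

theorem card_centralizer_le_two_mul [Finite G] (A : Subgroup G) [A.Normal] (hA : A.index = 2)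
    (x : A) :
    Nat.card (Subgroup.centralizer {(x : G)}) ≤
      2 * Nat.card (Subgroup.centralizer {x} : Subgroup A) := by
  rw [centralizer_subgroup_eq, Nat.card_congr (subgroupOfSwap _ _)]
  set C := Subgroup.centralizer {(x : G)} with hC
  have h1 := (A.subgroupOf C).card_mul_index
  have h2 : (A.subgroupOf C).index ∣ 2 := by
    have := Subgroup.relIndex_dvd_index_of_normal A C
    rw [hA] at this
    exact this
  have h3 : (A.subgroupOf C).index ≤ 2 := Nat.le_of_dvd (by norm_num) h2
  calc Nat.card C = Nat.card (A.subgroupOf C) * (A.subgroupOf C).index := h1.symm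
    _ ≤ Nat.card (A.subgroupOf C) * 2 := Nat.mul_le_mul_left _ h3
    _ = 2 * Nat.card (A.subgroupOf C) := mul_comm _ _

theorem card_centralizer_aut (φ : MulAut G) (x : G) :
    Nat.card (Subgroup.centralizer {φ x}) = Nat.card (Subgroup.centralizer {x}) := by
  symm
  apply Nat.card_congr
  refine Equiv.subtypeEquiv φ.toEquiv ?_
  intro y
  simp only [Subgroup.mem_centralizer_singleton_iff, MulEquiv.toEquiv_eq_coe,
    EquivLike.coe_coe]
  constructor
  · intro h
    rw [← map_mul, ← map_mul, h]
  · intro h
    rw [← map_mul, ← map_mul] at h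
    exact φ.injective h

end Centralizers

section Step1

variable {α : Type*} [Fintype α] [DecidableEq α]

theorem aut_three_cycle (hα : Fintype.card α ≠ 6) (φ : MulAut (alternatingGroup α))
    (g : alternatingGroup α) (hg : (g : Perm α).IsThreeCycle) :
    ((φ g : alternatingGroup α) : Perm α).IsThreeCycle := by
  have ho : orderOf ((φ g : alternatingGroup α) : Perm α) = 3 := by
    rw [Subgroup.orderOf_coe, MulEquiv.orderOf_eq, ← Subgroup.orderOf_coe, hg.orderOf]
  obtain ⟨j, hj⟩ := Perm.cycleType_prime_order (σ := ((φ g : alternatingGroup α) : Perm α))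
    (by rw [ho]; exact Nat.prime_three)
  rw [ho] at hj
  by_cases hj0 : j = 0
  · subst hj0
    exact hj
  exfalso
  have hsum : ((φ g : alternatingGroup α) : Perm α).cycleType.sum = 3 * (j + 1) := by
    rw [hj]; simp; ring
  have hle : 3 * (j + 1) ≤ Fintype.card α := by
    rw [← hsum, Perm.sum_cycleType]
    exact Finset.card_le_univ _
  have hnontriv : Nontrivial α := by
    rw [← Fintype.one_lt_card_iff_nontrivial]; omega
  have hidx : (alternatingGroup α).index = 2 := alternatingGroup.index_eq_two
  have c1 := Perm.nat_card_centralizer (g : Perm α)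
  have c2 := Perm.nat_card_centralizer ((φ g : alternatingGroup α) : Perm α)
  have hg' : (g : Perm α).cycleType = {3} := hg
  rw [hg'] at c1
  rw [hj] at c2
  simp only [Multiset.sum_singleton, Multiset.prod_singleton, Multiset.toFinset_singleton,
    Finset.prod_singleton, Multiset.count_singleton_self, Nat.factorial_one, mul_one] at c1
  have htf : (Multiset.replicate (j + 1) 3).toFinset = {3} := by
    ext x
    rw [Multiset.mem_toFinset, Multiset.mem_replicate, Finset.mem_singleton]
    exact ⟨fun h => h.2, fun h => ⟨by omega, h⟩⟩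
  rw [htf] at c2
  simp only [Multiset.sum_replicate, Multiset.prod_replicate, Finset.prod_singleton,
    Multiset.count_replicate_self, smul_eq_mul] at c2
  have L := card_centralizer_le_two_mul (alternatingGroup α) hidx g
  have U := card_centralizer_subgroup_le (alternatingGroup α) (φ g)
  have E := card_centralizer_aut φ g
  rw [c1] at L
  rw [c2, E] at U
  set m := Fintype.card α - (j + 1) * 3 with hm
  have hm' : Fintype.card α - 3 = m + 3 * j := by omega
  rw [hm'] at L
  have key := fact_ineq m j (by omega) (by omega)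
  have : (m + 3 * j).factorial * 3 ≤ 2 * (m.factorial * 3 ^ (j + 1) * (j + 1).factorial) :=
    L.trans (Nat.mul_le_mul_left _ U)
  omega

end Step1

section Main

variable {α : Type*} [Fintype α] [DecidableEq α]

theorem conjNormal_injective (hα4 : 4 ≤ Fintype.card α) :
    Function.Injective (MulAut.conjNormal : Perm α →* MulAut (alternatingGroup α)) := by
  rw [injective_iff_map_eq_one]
  intro σ hσ
  by_contra hne
  obtain ⟨x, hx⟩ : ∃ x, σ x ≠ x := by
    by_contra h
    push Not at h
    exact hne (Equiv.ext h)
  obtain ⟨c, d, hcx, hcy, hdx, hdy, hcd⟩ := exists_two_outside (o := x) (i := σ x) hα4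
  have h3 : (tc x c d).IsThreeCycle := tc_isThreeCycle hcx.symm hdx (Ne.symm hcd)
  have h := congrArg (fun ψ : MulAut (alternatingGroup α) =>
    ((ψ ⟨tc x c d, h3.mem_alternatingGroup⟩ : alternatingGroup α) : Perm α)) hσ
  simp only [MulAut.conjNormal_apply, MulAut.one_apply] at h
  have h' : σ * tc x c d = tc x c d * σ := by
    have := congrArg (· * σ) h
    simpa [mul_assoc] using this
  have h'' := congrArg (fun ψ : Perm α => ψ x) h'
  simp only [Perm.mul_apply, tc_apply] at h''
  have := σ.injective (a₁ := c) (a₂ := x)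
  grind

theorem aut_alt_surj (hα4 : 4 ≤ Fintype.card α) (hα6 : Fintype.card α ≠ 6)
    (φ : MulAut (alternatingGroup α)) :
    ∃ σ : Perm α, MulAut.conjNormal σ = φ := by
  classical
  have hnontriv : Nontrivial α := by
    rw [← Fintype.one_lt_card_iff_nontrivial]; omega
  obtain ⟨o, i, hoi⟩ := exists_pair_ne α
  let Φ : Perm α → Perm α := fun g =>
    if h : g ∈ alternatingGroup α then ((φ ⟨g, h⟩ : alternatingGroup α) : Perm α) else 1
  have hΦ : ∀ (g : Perm α) (h : g ∈ alternatingGroup α),
      Φ g = ((φ ⟨g, h⟩ : alternatingGroup α) : Perm α) := fun g h => dif_pos h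
  have hT : ∀ k, k ≠ o → k ≠ i → tc o i k ∈ alternatingGroup α :=
    fun k h1 h2 => (tc_isThreeCycle hoi h1 h2).mem_alternatingGroup
  obtain ⟨σ, hσ⟩ := assembly hoi hα4 (fun k => Φ (tc o i k))
    (by
      intro k hko hki
      show (Φ (tc o i k)).IsThreeCycle
      rw [hΦ _ (hT k hko hki)]
      exact aut_three_cycle hα6 φ _ (tc_isThreeCycle hoi hko hki))
    (by
      intro k l hko hki hlo hli hkl
      show Φ (tc o i k) * Φ (tc o i l) ≠ 1
      rw [hΦ _ (hT k hko hki), hΦ _ (hT l hlo hli), ← Subgroup.coe_mul, ← map_mul]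
      intro h
      have h1 : φ (⟨tc o i k, hT k hko hki⟩ * ⟨tc o i l, hT l hlo hli⟩) = 1 := Subtype.ext h
      rw [MulEquiv.map_eq_one_iff] at h1
      have h2 := congrArg (fun g : alternatingGroup α => (g : Perm α) o) h1
      simp only [Subgroup.coe_mul, Perm.mul_apply, tc_apply, Subgroup.coe_one, Perm.one_apply] at h2
      grind)
    (by
      intro k l hko hki hlo hli hkl
      show Φ (tc o i k) * Φ (tc o i l) * (Φ (tc o i k) * Φ (tc o i l)) = 1
      rw [hΦ _ (hT k hko hki), hΦ _ (hT l hlo hli), ← Subgroup.coe_mul, ← Subgroup.coe_mul,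
        ← map_mul, ← map_mul]
      have h1 : (⟨tc o i k, hT k hko hki⟩ * ⟨tc o i l, hT l hlo hli⟩ *
          (⟨tc o i k, hT k hko hki⟩ * ⟨tc o i l, hT l hlo hli⟩) : alternatingGroup α) = 1 := by
        apply Subtype.ext
        simp only [Subgroup.coe_mul, Subgroup.coe_one]
        ext x
        simp only [Perm.mul_apply, tc_apply, Perm.one_apply]
        grind
      rw [h1, map_one, Subgroup.coe_one])
  refine ⟨σ, ?_⟩
  -- generating set inside the alternating group
  let T : Set (alternatingGroup α) := {g | ∃ k, k ≠ o ∧ k ≠ i ∧ (g : Perm α) = tc o i k}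
  have hTtop : Subgroup.closure T = ⊤ := by
    apply Subgroup.map_injective (Subgroup.subtype_injective (alternatingGroup α))
    rw [MonoidHom.map_closure, ← MonoidHom.range_eq_map, Subgroup.range_subtype]
    refine Eq.trans ?_ (closure_tc hoi)
    congr 1
    ext g
    constructor
    · rintro ⟨g', ⟨k, hko, hki, hg'⟩, rfl⟩
      exact ⟨k, hko, hki, hg'⟩
    · rintro ⟨k, hko, hki, rfl⟩
      exact ⟨⟨tc o i k, hT k hko hki⟩, ⟨k, hko, hki, rfl⟩, rfl⟩
  have hhom : (MulAut.conjNormal σ : alternatingGroup α ≃* alternatingGroup α).toMonoidHom =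
      φ.toMonoidHom := by
    apply MonoidHom.eq_of_eqOn_dense hTtop
    rintro g ⟨k, hko, hki, hg⟩
    apply Subtype.ext
    show ((MulAut.conjNormal σ g : alternatingGroup α) : Perm α) = ((φ g : alternatingGroup α) : Perm α)
    rw [MulAut.conjNormal_apply, hg, ← hσ k hko hki]
    show Φ (tc o i k) = _
    rw [hΦ _ (hT k hko hki)]
    congr 2
    exact Subtype.ext hg.symm
  ext g : 1
  exact DFunLike.congr_fun hhom g

theorem conjNormal_bijective (hα4 : 4 ≤ Fintype.card α) (hα6 : Fintype.card α ≠ 6) :
    Function.Bijective (MulAut.conjNormal : Perm α →* MulAut (alternatingGroup α)) :=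
  ⟨conjNormal_injective hα4, aut_alt_surj hα4 hα6⟩

end Main

end Cfsg.Agent.H41
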