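import Cfsg.Agent.H41.J2Glue

/-!
# A permutation model of the covering group of `J₂` on 200 points (helper41)

The five generators of the group presented by `hatW` act on the `200` cosets of the subgroup
generated by `a, b, c, d`.  A permutation `p` is stored as the number `∑ p(x) * 256 ^ x`; the
tables are checked by `decide`.  The model shows that the value of the relator `(bdce)⁶` is
non-trivial in the covering group.
-/

set_option autoImplicit false
set_option maxRecDepth 1000000

namespace Cfsg.Agent.H41.J2P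

open Cfsg.Agent.H35

def mA : ℕ := 0xc7c6c5a7bbc2a2a49b9cb0bcc3bab6b3a5b992b4b87f9abdaf7d7cac7576a96ec46ab7c0a3c1a1969f6160bebfb1855e97a0957a93b588585a54528277504e914f5999714a8c8180b245aead439441408baaab3d7369843a49a86d6c47a6726567666834332e9e9d2d985d5c5b8f86902856298e538d468a878923243c836f486b517e1f7b1e79783f35744b3b70193637383e64631517161a625f132a2b55571211254c4d0f202144421d0e0d2f3918313032092c272607221c1b0c05061408100a0b0203040100

def mB : ℕ := 0xb9c6c5c4c3c2c0c1a3be98bc9592c7a188b6b5b4b38490858c7ead7a7baa9ca66da86968bf65b8a0619e75a99b895ebd7c5dbb945aba72b18f578daf634f9ab74c4bb0b24d82494770ae4497abac73783e5b9d4279913a7f6f38a76c6b36a5a46734a2648b329f435399962b7693294e8e273c265f2530248a5883878622812180391f7d6074411d1c771b551a71466e176a3366356231512f142d2c5c2a5911565452500f4a4820450d403f3d3b160a3719092e08122810230e1e050b18151303060c0407010200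

def mC : ℕ := 0xaec6a7aca4a3c1b5bf98bdbc96ba9089ab87c0b47f867eb07dc7a6c4b7a273a8c5ad8ac3c2aa63929f9e775f618b99be8fbb5c9481a091b9976962519aa5b84db6b2784a7b729380b3b1af7c837a53859d763d50a9824270386e6d37366a8e6834666556a18d9b459c2c2b952a484e284f64264679528c745759884c2284215a205460301e711d403f1b75393b243c6f6c6b166718321c44142e135e5d5b11582755103a234b49470d4341313e0b0a331735152f2d122925060e1f071a1904080c0f020901050300

def mD : ℕ := 0xc7c6c5a8c3c2c19ba4b9ae95bbbabeb3a59c9281b891987dafbd7cac8d76a9c46ea6b7bf66a2a1619f965fb6c05e83b1979ebc5a93b5b27e7a8eab824f624d7f77864a71998cb4808890b0ad7b8f554287aa52743b3a84696fa7376c476a703467a36465328aa02d9d9a5d5c5b9459452c5679542575242e8b2389462f8549486b4c58224378291e3f393d1a73723e176d311968156336144b506057122741132a1053514e440e1c0f400c200b3c351838093330282b07261f21051d1b04160311020d0a08060100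

def mE : ℕ := 0xc7a9c5b0b8c2b7b198bea7bcb393b6c3c1b986b4bb7ec0c4afa87bacab74c6aebd84a29a6da5a19d9f5fa09c5ea499bf5d609579ba595888556b526f89508b904db585a64a49815c45b26e43ad4194404e3d75aa733e6a398c7da36c8e7135636737333268622d969e9b97804829929157568f47538d448a237787224b83825b541f7f517c427a783f72763c3b19703066166915656414381a2e611326115a28102b250f4f4c1b0d461e1d0b212f3a18093634312c072a272405200c1c061708120a0e0403020001

/-- the function of a table -/
def tnat (T : ℕ) (p : ℕ) : ℕ := Nat.land (Nat.shiftRight T (Nat.mul 8 p)) 255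

/-- the action of a generator on numbers -/
def mnat : Gen → ℕ → ℕ
  | .a => tnat mA
  | .b => tnat mB
  | .c => tnat mC
  | .d => tnat mD
  | .e => tnat mE

/-- the action of a word on numbers -/
def wnat : List Gen → ℕ → ℕ
  | [], p => p
  | g :: w, p => mnat g (wnat w p)

/-- a check on all numbers below a bound -/
def chk (f : ℕ → Bool) : ℕ → Bool
  | 0 => true
  | n + 1 => f n && chk f n

theorem chk_sound (f : ℕ → Bool) : ∀ n, chk f n = true → ∀ p, p < n → f p = true
  | 0, _, p, hp => absurd hp (Nat.not_lt_zero p)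
  | n + 1, h, p, hp => by
    unfold chk at h
    rw [Bool.and_eq_true] at h
    rcases Nat.lt_succ_iff_lt_or_eq.1 hp with h1 | h1
    · exact chk_sound f n h.2 p h1
    · rw [h1]; exact h.1

theorem crange : chk (fun p => Nat.ble (mnat .a p + 1) 200 && Nat.ble (mnat .b p + 1) 200 &&
    Nat.ble (mnat .c p + 1) 200 && Nat.ble (mnat .d p + 1) 200 &&
    Nat.ble (mnat .e p + 1) 200) 200 = true := by decide +kernel

theorem cinv : chk (fun p => Nat.beq (mnat .a (mnat .a p)) p && Nat.beq (mnat .b (mnat .b p)) p &&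
    Nat.beq (mnat .c (mnat .c p)) p && Nat.beq (mnat .d (mnat .d p)) p &&
    Nat.beq (mnat .e (mnat .e p)) p) 200 = true := by decide +kernel

theorem crel : hatW.all (fun w => chk (fun p => Nat.beq (wnat w p) p) 200) = true := by
  decide +kernel

theorem mr5 : wnat wJ5 0 ≠ 0 := by decide +kernel

theorem mnat_lt (g : Gen) (p : ℕ) (hp : p < 200) : mnat g p < 200 := by
  have h := chk_sound _ _ crange p hp
  simp only [Bool.and_eq_true, Nat.ble_eq] at h
  cases g
  · exact h.1.1.1.1
  · exact h.1.1.1.2
  · exact h.1.1.2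
  · exact h.1.2
  · exact h.2

theorem mnat_inv (g : Gen) (p : ℕ) (hp : p < 200) : mnat g (mnat g p) = p := by
  have h := chk_sound _ _ cinv p hp
  simp only [Bool.and_eq_true] at h
  cases g
  · exact Nat.eq_of_beq_eq_true h.1.1.1.1
  · exact Nat.eq_of_beq_eq_true h.1.1.1.2
  · exact Nat.eq_of_beq_eq_true h.1.1.2
  · exact Nat.eq_of_beq_eq_true h.1.2
  · exact Nat.eq_of_beq_eq_true h.2

theorem wnat_lt (w : List Gen) (p : ℕ) (hp : p < 200) : wnat w p < 200 := by
  induction w with
  | nil => exact hp
  | cons g w ih => exact mnat_lt g _ ih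

theorem wnat_rel (w : List Gen) (hw : w ∈ hatW) (p : ℕ) (hp : p < 200) : wnat w p = p := by
  have h := List.all_eq_true.1 crel w hw
  have h2 := chk_sound _ _ h p hp
  exact Nat.eq_of_beq_eq_true h2

/-- the generators as permutations -/
def mp (g : Gen) : Equiv.Perm (Fin 200) where
  toFun x := ⟨mnat g x.val, mnat_lt g x.val x.isLt⟩
  invFun x := ⟨mnat g x.val, mnat_lt g x.val x.isLt⟩
  left_inv x := Fin.ext (mnat_inv g x.val x.isLt)
  right_inv x := Fin.ext (mnat_inv g x.val x.isLt)

theorem uw_mp (w : List Gen) (x : Fin 200) : (uw mp w x).val = wnat w x.val := by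
  induction w with
  | nil => simp [uw, wnat]
  | cons g w ih =>
    have : uw mp (g :: w) = mp g * uw mp w := by simp [uw]
    rw [this, Equiv.Perm.mul_apply]
    show mnat g (uw mp w x).val = mnat g (wnat w x.val)
    rw [ih]

/-- the model -/
noncomputable def mu : Pr hatW →* Equiv.Perm (Fin 200) :=
  up hatW mp (fun w hw => Equiv.ext fun x => Fin.ext (by
    rw [uw_mp, Equiv.Perm.one_apply]
    exact wnat_rel w hw x.val x.isLt))

theorem mu_uw (w : List Gen) : mu (uw (pg hatW) w) = uw mp w := by
  rw [map_uw]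
  rfl

/-- the value of `(bdce)⁶` is non-trivial in the covering group -/
theorem rho_ne : uw (pg hatW) wJ5 ≠ 1 := by
  intro h0
  have h : mu (uw (pg hatW) wJ5) = 1 := by rw [h0, map_one]
  rw [mu_uw] at h
  have := congrArg (fun p : Equiv.Perm (Fin 200) => (p 0).val) h
  simp only [uw_mp, Equiv.Perm.one_apply] at this
  exact mr5 this

end Cfsg.Agent.H41.J2P
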