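import Mathlib
import Cfsg.Prelude.Def_KGroupFacts

/-!
# A concrete model of the metacyclic groups `⟨A, B | A^M = 1, B^n = A^T, B A B⁻¹ = A^R⟩` (helper41)

The model is `(ZMod M ⋊ ℤ) / ⟨A^{-T} B^n⟩`.  The packaged statement is `exists_metaModel`.
-/

set_option autoImplicit false
set_option linter.unusedSectionVars false
set_option linter.style.haveILetI false

namespace Cfsg.Agent.H41.Meta

open Multiplicative

section Model

variable (M : ℕ) [NeZero M]

/-- Multiplication by a unit as an automorphism of `Multiplicative (ZMod M)`. -/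
def mulUnit (v : (ZMod M)ˣ) : MulAut (Multiplicative (ZMod M)) where
  toFun x := ofAdd ((v : ZMod M) * x.toAdd)
  invFun x := ofAdd (((v⁻¹ : (ZMod M)ˣ) : ZMod M) * x.toAdd)
  left_inv x := by simp [← mul_assoc]
  right_inv x := by simp [← mul_assoc]
  map_mul' x y := by
    rw [toAdd_mul, mul_add, ofAdd_add]

theorem mulUnit_apply (v : (ZMod M)ˣ) (x : Multiplicative (ZMod M)) :
    mulUnit M v x = ofAdd ((v : ZMod M) * x.toAdd) := rfl

/-- `mulUnit` as a homomorphism. -/
def mulUnitHom : (ZMod M)ˣ →* MulAut (Multiplicative (ZMod M)) where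
  toFun := mulUnit M
  map_one' := by
    ext x
    rw [mulUnit_apply, Units.val_one, one_mul]; rfl
  map_mul' v w := by
    ext x
    rw [MulAut.mul_apply, mulUnit_apply, mulUnit_apply, mulUnit_apply, Units.val_mul, toAdd_ofAdd,
      mul_assoc]
    rfl

variable (u : (ZMod M)ˣ)

/-- The action of `ℤ` on `ZMod M` through powers of the unit `u`. -/
def phi : Multiplicative ℤ →* MulAut (Multiplicative (ZMod M)) :=
  (mulUnitHom M).comp (zpowersHom _ u)

theorem phi_apply (k : Multiplicative ℤ) (x : Multiplicative (ZMod M)) :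
    phi M u k x = ofAdd (((u ^ k.toAdd : (ZMod M)ˣ) : ZMod M) * x.toAdd) := rfl

/-- The split extension `ZMod M ⋊ ℤ`. -/
abbrev P := Multiplicative (ZMod M) ⋊[phi M u] Multiplicative ℤ

/-- The generator of the normal cyclic subgroup. -/
def aP : P M u := SemidirectProduct.inl (ofAdd 1)

/-- The generator of the acting cyclic group. -/
def bP : P M u := SemidirectProduct.inr (ofAdd 1)

theorem inl_ofAdd_natCast (k : ℕ) :
    (SemidirectProduct.inl (ofAdd (k : ZMod M)) : P M u) = aP M u ^ k := by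
  unfold aP
  rw [← map_pow, ← ofAdd_nsmul, nsmul_eq_mul, mul_one]

theorem inl_eq_aP_pow (x : Multiplicative (ZMod M)) :
    (SemidirectProduct.inl x : P M u) = aP M u ^ x.toAdd.val := by
  rw [← inl_ofAdd_natCast, ZMod.natCast_zmod_val]; rfl

theorem inr_eq_bP_zpow (k : Multiplicative ℤ) :
    (SemidirectProduct.inr k : P M u) = bP M u ^ k.toAdd := by
  unfold bP
  rw [← map_zpow, ← ofAdd_zsmul, smul_eq_mul, mul_one]; rfl

theorem aP_pow_M : aP M u ^ M = 1 := by
  rw [← inl_ofAdd_natCast, ZMod.natCast_self]; rfl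

theorem bP_conj (R : ℕ) (hR : (R : ZMod M) = u) :
    bP M u * aP M u * (bP M u)⁻¹ = aP M u ^ R := by
  unfold bP
  rw [← map_inv, ← inl_ofAdd_natCast, hR]
  unfold aP
  rw [← SemidirectProduct.inl_aut, phi_apply]
  simp

theorem eq_aP_pow_mul_bP_zpow (x : P M u) :
    x = aP M u ^ x.left.toAdd.val * bP M u ^ x.right.toAdd := by
  rw [← inl_eq_aP_pow, ← inr_eq_bP_zpow, SemidirectProduct.inl_left_mul_inr_right]

end Model

section Quot

variable (M : ℕ) [NeZero M] (u : (ZMod M)ˣ) (n T : ℕ)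

/-- The element `A^{-T} B^n`, central when `u^n = 1` and `u T = T`. -/
def kappa : P M u := (aP M u ^ T)⁻¹ * bP M u ^ n

theorem bP_pow_comm_aP (hu : u ^ n = 1) : Commute (bP M u ^ n) (aP M u) := by
  have h := SemidirectProduct.inl_aut (φ := phi M u) (ofAdd (n : ℤ)) (ofAdd (1 : ZMod M))
  simp only [phi_apply, toAdd_ofAdd, zpow_natCast, hu, Units.val_one, one_mul, inr_eq_bP_zpow,
    map_inv] at h
  have h2 : aP M u = bP M u ^ n * aP M u * (bP M u ^ n)⁻¹ := h
  show bP M u ^ n * aP M u = aP M u * bP M u ^ n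
  nth_rewrite 2 [h2]
  rw [inv_mul_cancel_right]

theorem bP_comm_aP_pow (hT : (u : ZMod M) * T = T) : Commute (bP M u) (aP M u ^ T) := by
  have h := SemidirectProduct.inl_aut (φ := phi M u) (ofAdd (1 : ℤ)) (ofAdd (T : ZMod M))
  simp only [phi_apply, toAdd_ofAdd, zpow_one, hT, inl_ofAdd_natCast, map_inv] at h
  have h2 : aP M u ^ T = bP M u * aP M u ^ T * (bP M u)⁻¹ := h
  show bP M u * aP M u ^ T = aP M u ^ T * bP M u
  nth_rewrite 2 [h2]
  rw [inv_mul_cancel_right]

theorem kappa_mem_center (hu : u ^ n = 1) (hT : (u : ZMod M) * T = T) :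
    kappa M u n T ∈ Subgroup.center (P M u) := by
  have h1 : Commute (kappa M u n T) (aP M u) :=
    Commute.mul_left (Commute.inv_left (Commute.pow_left (Commute.refl _) T))
      (bP_pow_comm_aP M u n hu)
  have h2 : Commute (kappa M u n T) (bP M u) :=
    Commute.mul_left (Commute.inv_left (bP_comm_aP_pow M u T hT).symm)
      (Commute.pow_left (Commute.refl _) n)
  rw [Subgroup.mem_center_iff]
  intro g
  rw [eq_aP_pow_mul_bP_zpow M u g]
  exact ((h1.pow_right _).mul_right (h2.zpow_right _)).symm.eq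

/-- The central subgroup generated by `kappa` (intersected with the centre so that normality is
unconditional). -/
def K : Subgroup (P M u) := Subgroup.zpowers (kappa M u n T) ⊓ Subgroup.center (P M u)

instance : (K M u n T).Normal :=
  ⟨fun x hx g => by
    have h := Subgroup.mem_center_iff.1 hx.2 g
    rw [h, mul_inv_cancel_right]
    exact hx⟩

/-- The model group. -/
abbrev Gam := P M u ⧸ K M u n T

/-- The generator `A`. -/
def A : Gam M u n T := QuotientGroup.mk' (K M u n T) (aP M u)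

/-- The generator `B`. -/
def B : Gam M u n T := QuotientGroup.mk' (K M u n T) (bP M u)

theorem A_pow_M : A M u n T ^ M = 1 := by
  unfold A
  rw [← map_pow, aP_pow_M, map_one]

theorem B_conj (R : ℕ) (hR : (R : ZMod M) = u) :
    B M u n T * A M u n T * (B M u n T)⁻¹ = A M u n T ^ R := by
  unfold A B
  rw [← map_inv, ← map_mul, ← map_mul, bP_conj M u R hR, map_pow]

theorem B_pow_n (hu : u ^ n = 1) (hT : (u : ZMod M) * T = T) :
    B M u n T ^ n = A M u n T ^ T := by
  have hk : kappa M u n T ∈ K M u n T :=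
    ⟨Subgroup.mem_zpowers _, kappa_mem_center M u n T hu hT⟩
  have h1 : QuotientGroup.mk' (K M u n T) (kappa M u n T) = 1 := by
    rw [QuotientGroup.mk'_apply, QuotientGroup.eq_one_iff]; exact hk
  unfold kappa at h1
  rw [map_mul, map_inv, map_pow, map_pow, inv_mul_eq_one] at h1
  exact h1.symm

theorem mk_eq (x : P M u) : QuotientGroup.mk' (K M u n T) x =
    A M u n T ^ x.left.toAdd.val * B M u n T ^ x.right.toAdd := by
  unfold A B
  rw [← map_pow, ← map_zpow, ← map_mul, ← eq_aP_pow_mul_bP_zpow]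

theorem closure_AB : Subgroup.closure {A M u n T, B M u n T} = ⊤ := by
  rw [eq_top_iff]
  intro g _
  obtain ⟨x, rfl⟩ := QuotientGroup.mk'_surjective (K M u n T) g
  rw [mk_eq]
  exact Subgroup.mul_mem _ (Subgroup.pow_mem _ (Subgroup.subset_closure (by simp)) _)
    (Subgroup.zpow_mem _ (Subgroup.subset_closure (by simp)) _)

theorem dvd_of_A_pow_eq_one (hn : 0 < n) (k : ℕ) (hk : A M u n T ^ k = 1) : M ∣ k := by
  unfold A at hk
  rw [← map_pow, QuotientGroup.mk'_apply, QuotientGroup.eq_one_iff] at hk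
  obtain ⟨j, hj⟩ := Subgroup.mem_zpowers_iff.1 hk.1
  have h1 := congrArg (SemidirectProduct.rightHom (φ := phi M u)) hj
  have h2 : SemidirectProduct.rightHom (φ := phi M u) (kappa M u n T) = ofAdd (n : ℤ) := by
    unfold kappa aP bP
    rw [map_mul, map_inv, map_pow, map_pow, SemidirectProduct.rightHom_inl,
      SemidirectProduct.rightHom_inr, one_pow, inv_one, one_mul, ← ofAdd_nsmul, nsmul_eq_mul,
      mul_one]
  have h3 : SemidirectProduct.rightHom (φ := phi M u) (aP M u ^ k) = 1 := by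
    unfold aP
    rw [map_pow, SemidirectProduct.rightHom_inl, one_pow]
  rw [map_zpow, h2, h3, ← ofAdd_zsmul, smul_eq_mul] at h1
  have h4 : j * (n : ℤ) = 0 := h1
  have hj0 : j = 0 := by
    rcases mul_eq_zero.1 h4 with h | h
    · exact h
    · exact absurd h (by exact_mod_cast hn.ne')
  rw [hj0, zpow_zero] at hj
  have h5 : (SemidirectProduct.inl (ofAdd (k : ZMod M)) : P M u) = 1 := by
    rw [inl_ofAdd_natCast]; exact hj.symm
  have h6 : ofAdd (k : ZMod M) = 1 := by
    have := SemidirectProduct.inl_injective (φ := phi M u)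
    apply this
    rw [h5, map_one]
  exact (ZMod.natCast_eq_zero_iff k M).1 h6

theorem orderOf_A (hn : 0 < n) : orderOf (A M u n T) = M := by
  apply Nat.dvd_antisymm
  · exact orderOf_dvd_of_pow_eq_one (A_pow_M M u n T)
  · exact dvd_of_A_pow_eq_one M u n T hn _ (pow_orderOf_eq_one _)

theorem finite_Gam (hn : 0 < n) (hu : u ^ n = 1) (hT : (u : ZMod M) * T = T) :
    Finite (Gam M u n T) := by
  have hfo : IsOfFinOrder (A M u n T) :=
    isOfFinOrder_iff_pow_eq_one.2 ⟨M, Nat.pos_of_ne_zero (NeZero.ne M), A_pow_M M u n T⟩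
  haveI : Finite (Subgroup.zpowers (A M u n T)) := hfo.finite_zpowers
  have hBn : B M u n T ^ n ∈ Subgroup.zpowers (A M u n T) := by
    rw [B_pow_n M u n T hu hT]
    exact Subgroup.pow_mem _ (Subgroup.mem_zpowers _) _
  let f : Subgroup.zpowers (A M u n T) × Fin n → Gam M u n T :=
    fun p => (p.1 : Gam M u n T) * B M u n T ^ (p.2 : ℕ)
  apply Finite.of_surjective f
  intro g
  obtain ⟨x, rfl⟩ := QuotientGroup.mk'_surjective (K M u n T) g
  rw [mk_eq]
  obtain ⟨k, hk⟩ : ∃ k : ℤ, k = x.right.toAdd := ⟨_, rfl⟩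
  rw [← hk]
  have hn' : (n : ℤ) ≠ 0 := by exact_mod_cast hn.ne'
  have h1 : k = (n : ℤ) * (k / n) + ((k % n).toNat : ℤ) := by
    rw [Int.toNat_of_nonneg (Int.emod_nonneg k hn')]
    exact (Int.mul_ediv_add_emod k n).symm
  have h2 : (k % n).toNat < n := by
    have := Int.emod_lt_of_pos k (by exact_mod_cast hn : (0 : ℤ) < n)
    have h3 := Int.emod_nonneg k hn'
    omega
  refine ⟨(⟨A M u n T ^ x.left.toAdd.val * (B M u n T ^ n) ^ (k / n), ?_⟩, ⟨(k % n).toNat, h2⟩), ?_⟩
  · exact Subgroup.mul_mem _ (Subgroup.pow_mem _ (Subgroup.mem_zpowers _) _)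
      (Subgroup.zpow_mem _ hBn _)
  · show A M u n T ^ x.left.toAdd.val * (B M u n T ^ n) ^ (k / n) * B M u n T ^ (k % n).toNat = _
    nth_rewrite 3 [h1]
    rw [zpow_add, zpow_mul, zpow_natCast, zpow_natCast, mul_assoc]

end Quot

section Lift

variable (M : ℕ) [NeZero M] (u : (ZMod M)ˣ) (n T : ℕ)
variable {H : Type*} [Group H]

/-- `x ↦ α ^ x` as a homomorphism from `Multiplicative (ZMod M)` when `α ^ M = 1`. -/
def powHom (α : H) (hα : α ^ M = 1) : Multiplicative (ZMod M) →* H where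
  toFun x := α ^ x.toAdd.val
  map_one' := by
    rw [toAdd_one, ZMod.val_zero, pow_zero]
  map_mul' x y := by
    rw [toAdd_mul, ZMod.val_add, ← pow_add, ← pow_eq_pow_mod _ hα]

theorem powHom_natCast (α : H) (hα : α ^ M = 1) (k : ℕ) :
    powHom M α hα (ofAdd (k : ZMod M)) = α ^ k := by
  show α ^ ((k : ZMod M)).val = α ^ k
  rw [ZMod.val_natCast, ← pow_eq_pow_mod _ hα]

theorem powHom_compat (α β : H) (hα : α ^ M = 1) (R : ℕ) (hR : (R : ZMod M) = u)
    (hβ : β * α * β⁻¹ = α ^ R) (g : Multiplicative ℤ) (x : Multiplicative (ZMod M)) :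
    powHom M α hα (phi M u g x) = zpowersHom H β g * powHom M α hα x * (zpowersHom H β g)⁻¹ := by
  let S : Subgroup (Multiplicative ℤ) :=
    { carrier := {g | ∀ x, powHom M α hα (phi M u g x) =
        zpowersHom H β g * powHom M α hα x * (zpowersHom H β g)⁻¹}
      one_mem' := by
        intro x
        rw [map_one, map_one, one_mul, inv_one, mul_one]; rfl
      mul_mem' := by
        intro g h hg hh x
        rw [map_mul, MulAut.mul_apply, hg, hh, map_mul, mul_inv_rev]
        simp only [mul_assoc]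
      inv_mem' := by
        intro g hg x
        have h := hg (phi M u g⁻¹ x)
        rw [← MulAut.mul_apply, ← map_mul, mul_inv_cancel, map_one, MulAut.one_apply] at h
        rw [map_inv (zpowersHom H β), inv_inv, h]
        group }
  have h1 : ofAdd (1 : ℤ) ∈ S := by
    intro x
    have hx : x = ofAdd ((x.toAdd.val : ℕ) : ZMod M) := by
      rw [ZMod.natCast_zmod_val]; rfl
    rw [hx, phi_apply, toAdd_ofAdd, toAdd_ofAdd, zpow_one, ← hR, ← Nat.cast_mul, powHom_natCast,
      powHom_natCast, zpowersHom_apply, toAdd_ofAdd, zpow_one, ← conj_pow, hβ, ← pow_mul]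
  have h2 : g ∈ S := by
    have : g = ofAdd (1 : ℤ) ^ g.toAdd := by
      rw [← ofAdd_zsmul, smul_eq_mul, mul_one]; rfl
    rw [this]
    exact Subgroup.zpow_mem _ h1 _
  exact h2 x

/-- The homomorphism out of `ZMod M ⋊ ℤ`. -/
def liftP (α β : H) (hα : α ^ M = 1) (R : ℕ) (hR : (R : ZMod M) = u)
    (hβ : β * α * β⁻¹ = α ^ R) : P M u →* H :=
  SemidirectProduct.lift (powHom M α hα) (zpowersHom H β) (by
    intro g
    ext x
    exact powHom_compat M u α β hα R hR hβ g x)

theorem liftP_aP (α β : H) (hα : α ^ M = 1) (R : ℕ) (hR : (R : ZMod M) = u)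
    (hβ : β * α * β⁻¹ = α ^ R) : liftP M u α β hα R hR hβ (aP M u) = α := by
  unfold liftP aP
  rw [SemidirectProduct.lift_inl]
  have := powHom_natCast M α hα 1
  rw [Nat.cast_one, pow_one] at this
  exact this

theorem liftP_bP (α β : H) (hα : α ^ M = 1) (R : ℕ) (hR : (R : ZMod M) = u)
    (hβ : β * α * β⁻¹ = α ^ R) : liftP M u α β hα R hR hβ (bP M u) = β := by
  unfold liftP bP
  rw [SemidirectProduct.lift_inr, zpowersHom_apply, toAdd_ofAdd, zpow_one]

/-- The universal property of the model. -/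
def lift (α β : H) (hα : α ^ M = 1) (R : ℕ) (hR : (R : ZMod M) = u)
    (hβ : β * α * β⁻¹ = α ^ R) (hn : β ^ n = α ^ T) : Gam M u n T →* H :=
  QuotientGroup.lift (K M u n T) (liftP M u α β hα R hR hβ) (by
    intro x hx
    obtain ⟨j, hj⟩ := Subgroup.mem_zpowers_iff.1 hx.1
    rw [MonoidHom.mem_ker, ← hj, map_zpow]
    have : liftP M u α β hα R hR hβ (kappa M u n T) = 1 := by
      unfold kappa
      rw [map_mul, map_inv, map_pow, map_pow, liftP_aP, liftP_bP, hn, inv_mul_cancel]
    rw [this, one_zpow])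

theorem lift_A (α β : H) (hα : α ^ M = 1) (R : ℕ) (hR : (R : ZMod M) = u)
    (hβ : β * α * β⁻¹ = α ^ R) (hn : β ^ n = α ^ T) :
    lift M u n T α β hα R hR hβ hn (A M u n T) = α := by
  unfold lift A
  rw [QuotientGroup.mk'_apply, QuotientGroup.lift_mk, liftP_aP]

theorem lift_B (α β : H) (hα : α ^ M = 1) (R : ℕ) (hR : (R : ZMod M) = u)
    (hβ : β * α * β⁻¹ = α ^ R) (hn : β ^ n = α ^ T) :
    lift M u n T α β hα R hR hβ hn (B M u n T) = β := by
  unfold lift B
  rw [QuotientGroup.mk'_apply, QuotientGroup.lift_mk, liftP_bP]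

end Lift

/-- Existence of a finite model of `⟨A, B | A^M = 1, B^n = A^T, B A B⁻¹ = A^R⟩` in which `A` has
order exactly `M`, with its universal property. -/
theorem exists_metaModel (M n R T : ℕ) (hM : 0 < M) (hn : 0 < n) (hR : R ^ n ≡ 1 [MOD M])
    (hT : T * R ≡ T [MOD M]) :
    ∃ (Γ : Type) (_ : Group Γ) (_ : Finite Γ) (A B : Γ), Subgroup.closure {A, B} = ⊤ ∧
      orderOf A = M ∧ B * A * B⁻¹ = A ^ R ∧ B ^ n = A ^ T ∧
      ∀ (H : Type) [Group H] (α β : H), α ^ M = 1 → β * α * β⁻¹ = α ^ R → β ^ n = α ^ T →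
        ∃ f : Γ →* H, f A = α ∧ f B = β := by
  haveI : NeZero M := ⟨hM.ne'⟩
  have hcop : Nat.Coprime R M := by
    apply Nat.coprime_of_mul_modEq_one (R ^ (n - 1))
    rw [← pow_succ', Nat.sub_add_cancel hn]
    exact hR
  obtain ⟨u, hu0⟩ : ∃ u : (ZMod M)ˣ, (u : ZMod M) = (R : ZMod M) :=
    ⟨ZMod.unitOfCoprime R hcop, ZMod.coe_unitOfCoprime R hcop⟩
  have hu : u ^ n = 1 := by
    apply Units.ext
    rw [Units.val_pow_eq_pow_val, hu0, Units.val_one, ← Nat.cast_pow]
    have := (ZMod.natCast_eq_natCast_iff _ _ _).2 hR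
    rw [this, Nat.cast_one]
  have hT' : (u : ZMod M) * T = T := by
    rw [hu0, ← Nat.cast_mul, mul_comm]
    exact (ZMod.natCast_eq_natCast_iff _ _ _).2 hT
  refine ⟨Gam M u n T, inferInstance, finite_Gam M u n T hn hu hT', A M u n T, B M u n T,
    closure_AB M u n T, orderOf_A M u n T hn, B_conj M u n T R hu0.symm, B_pow_n M u n T hu hT', ?_⟩
  intro H _ α β hα hβ hβn
  exact ⟨lift M u n T α β hα R hu0.symm hβ hβn, lift_A M u n T α β hα R hu0.symm hβ hβn,
    lift_B M u n T α β hα R hu0.symm hβ hβn⟩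

end Cfsg.Agent.H41.Meta
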