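import Mathlib
import Cfsg.Agent.H41.Stem

/-!
# Central extensions of two-generator abelian groups (helper41)
-/

set_option autoImplicit false

namespace Cfsg.Agent.H41

open Cfsg

universe u v

/-- Central extensions of a group generated by commuting `x, y`: the derived subgroup of the
extension is cyclic, generated by a central `c` (the commutator of lifts) with `c ^ N = 1`
as soon as `x ^ N = 1` or `y ^ N = 1`. -/
theorem commuting_type_central_ext {K E : Type*} [Group K] [Group E] (π : E →* K)
    (hπ : Function.Surjective π) (hc : π.ker ≤ Subgroup.center E) (x y : K)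
    (hgen : Subgroup.closure {x, y} = ⊤) (hxy : x * y = y * x) :
    ∃ c : E, π c = 1 ∧ commutator E ≤ Subgroup.zpowers c ∧
      (∀ N : ℕ, x ^ N = 1 → c ^ N = 1) ∧ (∀ N : ℕ, y ^ N = 1 → c ^ N = 1) := by
  obtain ⟨xt, hxt⟩ := hπ x
  obtain ⟨yt, hyt⟩ := hπ y
  have hcen : ∀ z : E, π z = 1 → ∀ g : E, g * z = z * g := fun z hz =>
    Subgroup.mem_center_iff.1 (hc (MonoidHom.mem_ker.2 hz))
  obtain ⟨c, hcdef⟩ : ∃ c : E, c = xt * yt * xt⁻¹ * yt⁻¹ := ⟨_, rfl⟩
  have hπc : π c = 1 := by
    rw [hcdef, map_mul, map_mul, map_mul, map_inv, map_inv, hxt, hyt, hxy]; group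
  have hcc := hcen c hπc
  refine ⟨c, hπc, ?_, ?_, ?_⟩
  · -- derived subgroup
    have hE : Subgroup.closure {xt, yt} ⊔ π.ker = ⊤ := by
      rw [eq_top_iff]
      intro e _
      have h1 : π e ∈ Subgroup.map π (Subgroup.closure {xt, yt}) := by
        rw [MonoidHom.map_closure, Set.image_pair, hxt, hyt, hgen]
        exact Subgroup.mem_top _
      obtain ⟨e₀, he₀, he₀'⟩ := h1
      have h2 : e₀⁻¹ * e ∈ π.ker := by
        rw [MonoidHom.mem_ker, map_mul, map_inv, he₀', inv_mul_cancel]
      have h3 : e = e₀ * (e₀⁻¹ * e) := by group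
      rw [h3]
      exact Subgroup.mul_mem_sup he₀ h2
    have hnormal : (Subgroup.zpowers c).Normal := by
      constructor
      rintro _ ⟨k, rfl⟩ g
      have : g * c ^ k * g⁻¹ = c ^ k := by
        have h1 : π (c ^ k) = 1 := by rw [map_zpow, hπc, one_zpow]
        rw [hcen _ h1 g, mul_inv_cancel_right]
      rw [this]
      exact ⟨k, rfl⟩
    let C := Subgroup.zpowers c
    let S : Set (E ⧸ C) := QuotientGroup.mk' C '' ({xt, yt} ∪ (π.ker : Set E))
    have hS : Subgroup.closure S = ⊤ := by
      show Subgroup.closure (QuotientGroup.mk' C '' ({xt, yt} ∪ (π.ker : Set E))) = ⊤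
      rw [← MonoidHom.map_closure, Subgroup.closure_union, Subgroup.closure_eq, hE,
        ← MonoidHom.range_eq_map, MonoidHom.range_eq_top]
      exact QuotientGroup.mk'_surjective C
    have hmk : ∀ a b : E, a * b = c * (b * a) ∨ b * a = c * (a * b) ∨ a * b = b * a →
        (QuotientGroup.mk' C a) * (QuotientGroup.mk' C b) =
          (QuotientGroup.mk' C b) * (QuotientGroup.mk' C a) := by
      intro a b h
      have hc1 : QuotientGroup.mk' C c = 1 :=
        (QuotientGroup.eq_one_iff c).2 (Subgroup.mem_zpowers c)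
      rcases h with h | h | h
      · rw [← map_mul, h, map_mul, hc1, one_mul, map_mul]
      · rw [← map_mul (QuotientGroup.mk' C) b a, h, map_mul, hc1, one_mul, map_mul]
      · rw [← map_mul, h, map_mul]
    have hSc : ∀ a ∈ S, ∀ b ∈ S, a * b = b * a := by
      rintro _ ⟨a, ha, rfl⟩ _ ⟨b, hb', rfl⟩
      apply hmk
      rcases ha with (rfl | rfl) | ha
      · rcases hb' with (rfl | rfl) | hb'
        · right; right; rfl
        · left
          rw [hcdef]; group
        · right; right
          exact (hcen b (MonoidHom.mem_ker.1 hb') a)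
      · rcases hb' with (rfl | rfl) | hb'
        · right; left
          rw [hcdef]; group
        · right; right; rfl
        · right; right
          exact (hcen b (MonoidHom.mem_ker.1 hb') a)
      · right; right
        exact (hcen a (MonoidHom.mem_ker.1 ha) b).symm
    have hQ := comm_of_closure_eq_top hS hSc
    rw [commutator_def, Subgroup.commutator_le]
    intro g₁ _ g₂ _
    rw [← QuotientGroup.eq_one_iff (N := C), commutatorElement_def]
    have := hQ (QuotientGroup.mk' C g₁) (QuotientGroup.mk' C g₂)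
    show (QuotientGroup.mk' C) (g₁ * g₂ * g₁⁻¹ * g₂⁻¹) = 1
    rw [map_mul, map_mul, map_mul, map_inv, map_inv, this]; group
  · intro N hN
    -- yt * xt * yt⁻¹ = c⁻¹ * xt
    have hcen' := hcen (xt ^ N) (by rw [map_pow, hxt, hN])
    have h1 : yt * xt * yt⁻¹ = c⁻¹ * xt := by rw [hcdef]; group
    have h2 : (c⁻¹ * xt) ^ N = xt ^ N := by
      rw [← h1, conj_pow, hcen' yt, mul_inv_cancel_right]
    have h3 : Commute c⁻¹ xt := (Commute.inv_left (hcc xt).symm)
    rw [h3.mul_pow] at h2
    have h4 : c⁻¹ ^ N = 1 := mul_eq_right.1 h2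
    rwa [inv_pow, inv_eq_one] at h4
  · intro N hN
    have hcen' := hcen (yt ^ N) (by rw [map_pow, hyt, hN])
    have h1 : xt * yt * xt⁻¹ = c * yt := by rw [hcdef]; group
    have h2 : (c * yt) ^ N = yt ^ N := by
      rw [← h1, conj_pow, hcen' xt, mul_inv_cancel_right]
    have h3 : Commute c yt := (hcc yt).symm
    rw [h3.mul_pow] at h2
    exact mul_eq_right.1 h2

/-- A subgroup of a cyclic group `⟨c⟩` with `c ^ n = 1` is a quotient of `ZMod n`. -/
theorem exists_surjective_zmod_of_le_zpowers {E : Type*} [Group E] {c : E} {n : ℕ}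
    (hcn : c ^ n = 1) (H : Subgroup E) (hH : H ≤ Subgroup.zpowers c) :
    ∃ π : Multiplicative (ZMod n) →* H, Function.Surjective π := by
  have hcyc : IsCyclic H := by
    have : IsCyclic (H.subgroupOf (Subgroup.zpowers c)) := Subgroup.isCyclic _
    exact isCyclic_of_surjective (Subgroup.subgroupOfEquivOfLe hH).toMonoidHom
      (Subgroup.subgroupOfEquivOfLe hH).surjective
  obtain ⟨d, hd⟩ := hcyc.exists_generator
  have hdn : d ^ n = 1 := by
    obtain ⟨k, hk⟩ := hH d.2
    apply Subtype.ext
    rw [Subgroup.coe_pow, Subgroup.coe_one, ← hk, ← zpow_natCast, ← zpow_mul, mul_comm, zpow_mul,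
      zpow_natCast, hcn, one_zpow]
  let f : ZMod n →+ Additive H := ZMod.lift n ⟨zmultiplesHom (Additive H) (Additive.ofMul d), by
    show (n : ℤ) • Additive.ofMul d = 0
    rw [natCast_zsmul, ← ofMul_pow, hdn]; rfl⟩
  refine ⟨AddMonoidHom.toMultiplicativeLeft f, ?_⟩
  intro h
  obtain ⟨k, hk⟩ := hd h
  refine ⟨Multiplicative.ofAdd (k : ZMod n), ?_⟩
  show Additive.toMul (f (k : ZMod n)) = h
  rw [ZMod.lift_coe]
  show Additive.toMul (k • Additive.ofMul d) = h
  rw [← hk]; rfl

end Cfsg.Agent.H41
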