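import Mathlib
import Cfsg.Prelude.Def_KGroupFacts
import Cfsg.Agent.H41.Cover
import Cfsg.Agent.H41.StemAb
import Cfsg.Agent.H41.MetaModel

/-!
# The Schur multiplier of a metacyclic group (helper41)

For `G = ⟨a, b | a^m = 1, b^n = a^t, b a b⁻¹ = a^r⟩` with `t = m l / (m, r-1)` the multiplier is
cyclic of order `(l, h)`, `h = (m, r-1) (m, 1 + r + ⋯ + r^{n-1}) / m`.
-/

set_option autoImplicit false
set_option linter.unusedSectionVars false
set_option linter.style.haveILetI false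

namespace Cfsg.Agent.H41.Meta

open Cfsg
open scoped commutatorElement

section NumberTheory

theorem geom_nat (r n : ℕ) (hr : 0 < r) :
    (r - 1) * ∑ i ∈ Finset.range n, r ^ i + 1 = r ^ n := by
  obtain ⟨s, rfl⟩ : ∃ s, r = s + 1 := ⟨r - 1, by omega⟩
  rw [Nat.add_sub_cancel]
  induction n with
  | zero => simp
  | succ n ih =>
    rw [Finset.sum_range_succ, mul_add, pow_succ]
    calc s * ∑ i ∈ Finset.range n, (s + 1) ^ i + s * (s + 1) ^ n + 1
        = (s * ∑ i ∈ Finset.range n, (s + 1) ^ i + 1) + s * (s + 1) ^ n := by ring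
      _ = (s + 1) ^ n * (s + 1) := by rw [ih]; ring

theorem exists_coprime_add_mul (ρ μ N : ℕ) (h : Nat.Coprime μ ρ) (hN : 0 < N) :
    ∃ j, Nat.Coprime (ρ + μ * j) N := by
  classical
  refine ⟨∏ p ∈ N.primeFactors.filter (fun p => ¬ p ∣ ρ), p, ?_⟩
  by_contra hc
  obtain ⟨p, hp, hp1, hp2⟩ := Nat.Prime.not_coprime_iff_dvd.1 hc
  by_cases hpρ : p ∣ ρ
  · -- then `p ∤ μ` and `p ∤ j`
    have hpμj : p ∣ μ * ∏ p ∈ N.primeFactors.filter (fun p => ¬ p ∣ ρ), p :=
      (Nat.dvd_add_right hpρ).1 hp1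
    rcases (Nat.Prime.dvd_mul hp).1 hpμj with h1 | h1
    · have := Nat.dvd_gcd h1 hpρ
      rw [h] at this
      exact hp.one_lt.ne' (Nat.dvd_one.1 this)
    · obtain ⟨q, hq, hpq⟩ := (Prime.dvd_finsetProd_iff hp.prime _).1 h1
      rw [Finset.mem_filter] at hq
      have hqp : q.Prime := Nat.prime_of_mem_primeFactors hq.1
      have : p = q := (Nat.prime_dvd_prime_iff_eq hp hqp).1 hpq
      rw [← this] at hq
      exact hq.2 hpρ
  · have hmem : p ∈ N.primeFactors.filter (fun p => ¬ p ∣ ρ) := by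
      rw [Finset.mem_filter]
      exact ⟨Nat.mem_primeFactors.2 ⟨hp, hp2, hN.ne'⟩, hpρ⟩
    have hpj : p ∣ ∏ p ∈ N.primeFactors.filter (fun p => ¬ p ∣ ρ), p :=
      Finset.dvd_prod_of_mem _ hmem
    have hpμj : p ∣ μ * ∏ p ∈ N.primeFactors.filter (fun p => ¬ p ∣ ρ), p :=
      Dvd.dvd.mul_left hpj μ
    exact hpρ ((Nat.dvd_add_left hpμj).1 hp1)

/-- Basic arithmetic of the parameters. -/
theorem basic (m n r : ℕ) (hm : 0 < m) (hr : 0 < r) (hrn : r ^ n ≡ 1 [MOD m]) :
    ∃ d μ ρ g h : ℕ, d = Nat.gcd m (r - 1) ∧ g = Nat.gcd m (∑ i ∈ Finset.range n, r ^ i) ∧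
      h = d * g / m ∧ m = d * μ ∧ r - 1 = d * ρ ∧ Nat.Coprime μ ρ ∧ μ * h = g ∧ 0 < d ∧
      0 < μ ∧ 0 < h := by
  have hd : 0 < Nat.gcd m (r - 1) := Nat.gcd_pos_of_pos_left _ hm
  have hg : 0 < Nat.gcd m (∑ i ∈ Finset.range n, r ^ i) := Nat.gcd_pos_of_pos_left _ hm
  have hmd : m = Nat.gcd m (r - 1) * (m / Nat.gcd m (r - 1)) :=
    (Nat.mul_div_cancel' (Nat.gcd_dvd_left m (r - 1))).symm
  have hrd : r - 1 = Nat.gcd m (r - 1) * ((r - 1) / Nat.gcd m (r - 1)) :=
    (Nat.mul_div_cancel' (Nat.gcd_dvd_right m (r - 1))).symm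
  have hgeo := geom_nat r n hr
  have hmS : m ∣ (r - 1) * ∑ i ∈ Finset.range n, r ^ i := by
    have h1 : 1 ≤ r ^ n := Nat.one_le_pow _ _ hr
    have h2 := (Nat.modEq_iff_dvd' h1).1 hrn.symm
    have h3 : r ^ n - 1 = (r - 1) * ∑ i ∈ Finset.range n, r ^ i := by omega
    rwa [h3] at h2
  have hmdg : m ∣ Nat.gcd m (r - 1) * Nat.gcd m (∑ i ∈ Finset.range n, r ^ i) := by
    rw [← Nat.gcd_mul_left]
    apply Nat.dvd_gcd
    · exact Dvd.intro_left _ rfl
    · rw [← Nat.gcd_mul_right]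
      exact Nat.dvd_gcd (Dvd.intro _ rfl) hmS
  have hμ : 0 < m / Nat.gcd m (r - 1) := by
    rcases Nat.eq_zero_or_pos (m / Nat.gcd m (r - 1)) with h0 | h0
    · rw [h0, mul_zero] at hmd; omega
    · exact h0
  have hμh : m / Nat.gcd m (r - 1) *
      (Nat.gcd m (r - 1) * Nat.gcd m (∑ i ∈ Finset.range n, r ^ i) / m) =
      Nat.gcd m (∑ i ∈ Finset.range n, r ^ i) := by
    have h1 := Nat.div_mul_cancel hmdg
    apply Nat.eq_of_mul_eq_mul_left hd
    calc Nat.gcd m (r - 1) * (m / Nat.gcd m (r - 1) *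
          (Nat.gcd m (r - 1) * Nat.gcd m (∑ i ∈ Finset.range n, r ^ i) / m))
        = (Nat.gcd m (r - 1) * (m / Nat.gcd m (r - 1))) *
          (Nat.gcd m (r - 1) * Nat.gcd m (∑ i ∈ Finset.range n, r ^ i) / m) := by ring
      _ = m * (Nat.gcd m (r - 1) * Nat.gcd m (∑ i ∈ Finset.range n, r ^ i) / m) := by
          rw [← hmd]
      _ = Nat.gcd m (r - 1) * Nat.gcd m (∑ i ∈ Finset.range n, r ^ i) := by
          rw [mul_comm]; exact h1
  refine ⟨_, m / Nat.gcd m (r - 1), (r - 1) / Nat.gcd m (r - 1), _, _, rfl, rfl, rfl, hmd, hrd,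
    Nat.coprime_div_gcd_div_gcd hd, hμh, hd, hμ, ?_⟩
  rcases Nat.eq_zero_or_pos
    (Nat.gcd m (r - 1) * Nat.gcd m (∑ i ∈ Finset.range n, r ^ i) / m) with h0 | h0
  · rw [h0, mul_zero] at hμh; omega
  · exact h0

/-- The parameters of the covering group. -/
theorem cover_params (m n r l d μ ρ g h : ℕ) (hr : 0 < r)
    (hg : g = Nat.gcd m (∑ i ∈ Finset.range n, r ^ i)) (hmd : m = d * μ) (hrd : r - 1 = d * ρ)
    (hcop : Nat.Coprime μ ρ) (hμh : μ * h = g) (hμ : 0 < μ) (hh : 0 < h) :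
    ∃ j, (r + m * j) ^ n ≡ 1 [MOD m * Nat.gcd l h] ∧
      μ * l * (r + m * j) ≡ μ * l [MOD m * Nat.gcd l h] ∧
      m * Nat.gcd l h ∣ m * (r + m * j - 1) ∧ Nat.gcd (m * Nat.gcd l h) (r + m * j - 1) ∣ m := by
  obtain ⟨N, hN⟩ : ∃ N, N = Nat.gcd l h := ⟨_, rfl⟩
  rw [← hN]
  have hNpos : 0 < N := by rw [hN]; exact Nat.gcd_pos_of_pos_right _ hh
  have hNl : N ∣ l := by rw [hN]; exact Nat.gcd_dvd_left _ _
  have hNh : N ∣ h := by rw [hN]; exact Nat.gcd_dvd_right _ _
  obtain ⟨j, hj⟩ := exists_coprime_add_mul ρ μ N hcop hNpos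
  have hr' : r + m * j - 1 = d * (ρ + μ * j) := by
    have : r + m * j - 1 = (r - 1) + m * j := by omega
    rw [this, hrd, hmd]; ring
  have hgm : g ∣ m := by rw [hg]; exact Nat.gcd_dvd_left _ _
  have hgS : g ∣ ∑ i ∈ Finset.range n, r ^ i := by rw [hg]; exact Nat.gcd_dvd_right _ _
  have hhd : h ∣ d := by
    apply Nat.dvd_of_mul_dvd_mul_left hμ
    rw [hμh, mul_comm, ← hmd]; exact hgm
  have hμN : μ * N ∣ g := by rw [← hμh]; exact Nat.mul_dvd_mul_left μ hNh
  refine ⟨j, ?_, ?_, ?_, ?_⟩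
  · -- `r'^n ≡ 1`
    have hgeo := geom_nat (r + m * j) n (by omega)
    have hS' : μ * N ∣ ∑ i ∈ Finset.range n, (r + m * j) ^ i := by
      have h1 : ∑ i ∈ Finset.range n, (r + m * j) ^ i ≡ ∑ i ∈ Finset.range n, r ^ i [MOD m] := by
        rw [← ZMod.natCast_eq_natCast_iff]
        push_cast
        simp
      have h2 := Nat.ModEq.of_dvd (hμN.trans hgm) h1
      exact (Nat.ModEq.dvd_iff h2 (dvd_refl _)).2 (hμN.trans hgS)
    obtain ⟨q, hq⟩ := hS'
    rw [← hgeo, hr', hq]
    have : d * (ρ + μ * j) * (μ * N * q) + 1 = 1 + m * N * ((ρ + μ * j) * q) := by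
      rw [hmd]; ring
    rw [this]
    exact Nat.ModEq.symm (Nat.modEq_iff_dvd' (Nat.le_add_right _ _) |>.2 (by simp))
  · obtain ⟨q, hq⟩ := hNl
    have h1 : μ * l * (r + m * j) = μ * l + m * N * (q * (ρ + μ * j)) := by
      have : r + m * j = (r + m * j - 1) + 1 := by omega
      rw [this, hr', hq, hmd]; ring
    rw [h1]
    exact Nat.ModEq.symm (Nat.modEq_iff_dvd' (Nat.le_add_right _ _) |>.2 (by simp))
  · apply Nat.mul_dvd_mul_left
    rw [hr']
    exact Dvd.dvd.mul_right (hNh.trans hhd) _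
  · rw [hr', hmd, mul_assoc, Nat.gcd_mul_left]
    have h1 : Nat.Coprime (μ * N) (ρ + μ * j) := by
      apply Nat.Coprime.mul_left
      · rw [Nat.coprime_add_mul_left_right]; exact hcop
      · exact hj.symm
    rw [h1, mul_one]
    exact Dvd.intro _ rfl

end NumberTheory

section Upper

variable {Γ : Type*} [Group Γ]

theorem conj_pow_of (A B ζ : Γ) (hζ : ζ ∈ Subgroup.center Γ) (r : ℕ)
    (h : B * A * B⁻¹ = ζ * A ^ r) (k : ℕ) : B * A ^ k * B⁻¹ = ζ ^ k * A ^ (r * k) := by
  have hc : Commute ζ (A ^ r) := (Subgroup.mem_center_iff.1 hζ (A ^ r)).symm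
  rw [← conj_pow, h, hc.mul_pow, ← pow_mul]

theorem pow_conj_of (A B ζ : Γ) (hζ : ζ ∈ Subgroup.center Γ) (r : ℕ)
    (h : B * A * B⁻¹ = ζ * A ^ r) (k : ℕ) :
    B ^ k * A * (B ^ k)⁻¹ = ζ ^ (∑ i ∈ Finset.range k, r ^ i) * A ^ (r ^ k) := by
  induction k with
  | zero => simp
  | succ k ih =>
    have e : B ^ (k + 1) * A * (B ^ (k + 1))⁻¹ = B * (B ^ k * A * (B ^ k)⁻¹) * B⁻¹ := by
      rw [pow_succ']; group
    have hc : ∀ g : Γ, g * ζ ^ (∑ i ∈ Finset.range k, r ^ i) =
        ζ ^ (∑ i ∈ Finset.range k, r ^ i) * g := fun g =>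
      Subgroup.mem_center_iff.1 (Subgroup.pow_mem _ hζ _) g
    have e2 : B * (ζ ^ (∑ i ∈ Finset.range k, r ^ i) * A ^ (r ^ k)) * B⁻¹ =
        ζ ^ (∑ i ∈ Finset.range k, r ^ i) * (B * A ^ (r ^ k) * B⁻¹) := by
      rw [← mul_assoc, hc B]
      simp only [mul_assoc]
    rw [e, ih, e2, conj_pow_of A B ζ hζ r h, ← mul_assoc, ← pow_add, Finset.sum_range_succ,
      pow_succ' r k]

/-- The commutator `⁅B, A⁆ = ζ A^{r-1}`. -/
theorem comm_eq_of (A B ζ : Γ) (r : ℕ) (hr : 0 < r) (h : B * A * B⁻¹ = ζ * A ^ r) :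
    ⁅B, A⁆ = ζ * A ^ (r - 1) := by
  rw [commutatorElement_def, h, mul_assoc]
  congr 1
  have : r = (r - 1) + 1 := by omega
  nth_rewrite 1 [this]
  rw [pow_succ, mul_inv_cancel_right]

theorem c_pow_of (A ζ : Γ) (hζ : ζ ∈ Subgroup.center Γ) (r k : ℕ) :
    (ζ * A ^ (r - 1)) ^ k = ζ ^ k * A ^ ((r - 1) * k) := by
  have hc : Commute ζ (A ^ (r - 1)) := (Subgroup.mem_center_iff.1 hζ _).symm
  rw [hc.mul_pow, ← pow_mul]

/-- If `B` commutes with `A ^ k` then `c ^ k = 1`. -/
theorem c_pow_eq_one_of_commute (A B ζ : Γ) (hζ : ζ ∈ Subgroup.center Γ) (r : ℕ) (hr : 0 < r)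
    (h : B * A * B⁻¹ = ζ * A ^ r) (k : ℕ) (hk : Commute B (A ^ k)) :
    (ζ * A ^ (r - 1)) ^ k = 1 := by
  have h1 := conj_pow_of A B ζ hζ r h k
  rw [hk.eq, mul_inv_cancel_right] at h1
  have h2 : r * k = (r - 1) * k + k := by
    have : r = (r - 1) + 1 := by omega
    nth_rewrite 1 [this]
    ring
  rw [h2, pow_add, ← mul_assoc] at h1
  rw [c_pow_of A ζ hζ]
  exact (right_eq_mul.1 h1)

/-- If `B ^ n` commutes with `A` then `c ^ S = 1`. -/
theorem c_pow_sum_eq_one (A B ζ : Γ) (hζ : ζ ∈ Subgroup.center Γ) (r : ℕ) (hr : 0 < r)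
    (h : B * A * B⁻¹ = ζ * A ^ r) (n : ℕ) (hn : Commute (B ^ n) A) :
    (ζ * A ^ (r - 1)) ^ (∑ i ∈ Finset.range n, r ^ i) = 1 := by
  have h1 := pow_conj_of A B ζ hζ r h n
  rw [hn.eq, mul_inv_cancel_right, ← geom_nat r n hr, pow_succ, ← mul_assoc] at h1
  rw [c_pow_of A ζ hζ]
  exact (right_eq_mul.1 h1)

/-- A normal subgroup containing the commutators of a set generating modulo the centre contains
the derived subgroup. -/
theorem commutator_le_of_generators (C : Subgroup Γ) [C.Normal] (X : Set Γ)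
    (hX : Subgroup.closure X ⊔ Subgroup.center Γ = ⊤) (h : ∀ x ∈ X, ∀ y ∈ X, ⁅x, y⁆ ∈ C) :
    commutator Γ ≤ C := by
  have key : ∀ x y : Γ, ⁅x, y⁆ ∈ C ↔
      QuotientGroup.mk' C x * QuotientGroup.mk' C y = QuotientGroup.mk' C y * QuotientGroup.mk' C x := by
    intro x y
    rw [← commutatorElement_eq_one_iff_mul_comm, ← map_commutatorElement, QuotientGroup.mk'_apply,
      QuotientGroup.eq_one_iff]
  have step1 : ∀ x ∈ X, ∀ y : Γ, ⁅x, y⁆ ∈ C := by
    intro x hx y
    have hle : Subgroup.closure X ⊔ Subgroup.center Γ ≤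
        (Subgroup.centralizer {QuotientGroup.mk' C x}).comap (QuotientGroup.mk' C) := by
      apply sup_le
      · rw [Subgroup.closure_le]
        intro y hy
        show QuotientGroup.mk' C y ∈ Subgroup.centralizer {QuotientGroup.mk' C x}
        rw [Subgroup.mem_centralizer_iff]
        intro q hq
        rw [Set.mem_singleton_iff] at hq
        rw [hq]
        exact (key x y).1 (h x hx y hy)
      · intro z hz
        show QuotientGroup.mk' C z ∈ Subgroup.centralizer {QuotientGroup.mk' C x}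
        rw [Subgroup.mem_centralizer_iff]
        intro q hq
        rw [Set.mem_singleton_iff] at hq
        rw [hq, ← map_mul, ← map_mul, Subgroup.mem_center_iff.1 hz x]
    rw [hX] at hle
    have hy : y ∈ (Subgroup.centralizer {QuotientGroup.mk' C x}).comap (QuotientGroup.mk' C) :=
      hle (Subgroup.mem_top y)
    have hy' := Subgroup.mem_centralizer_iff.1 hy (QuotientGroup.mk' C x) rfl
    exact (key x y).2 hy'
  have step2 : ∀ x y : Γ, ⁅x, y⁆ ∈ C := by
    intro x y
    have hle : Subgroup.closure X ⊔ Subgroup.center Γ ≤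
        (Subgroup.centralizer {QuotientGroup.mk' C y}).comap (QuotientGroup.mk' C) := by
      apply sup_le
      · rw [Subgroup.closure_le]
        intro x hx
        show QuotientGroup.mk' C x ∈ Subgroup.centralizer {QuotientGroup.mk' C y}
        rw [Subgroup.mem_centralizer_iff]
        intro q hq
        rw [Set.mem_singleton_iff] at hq
        rw [hq]
        exact ((key x y).1 (step1 x hx y)).symm
      · intro z hz
        show QuotientGroup.mk' C z ∈ Subgroup.centralizer {QuotientGroup.mk' C y}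
        rw [Subgroup.mem_centralizer_iff]
        intro q hq
        rw [Set.mem_singleton_iff] at hq
        rw [hq, ← map_mul, ← map_mul, Subgroup.mem_center_iff.1 hz y]
    rw [hX] at hle
    have hx : x ∈ (Subgroup.centralizer {QuotientGroup.mk' C y}).comap (QuotientGroup.mk' C) :=
      hle (Subgroup.mem_top x)
    have hx' := Subgroup.mem_centralizer_iff.1 hx (QuotientGroup.mk' C y) rfl
    exact (key x y).2 hx'.symm
  rw [commutator_def, Subgroup.commutator_le]
  intro x _ y _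
  exact step2 x y

/-- The core of the upper bound: in a finite stem extension of a group generated by `a, b` with
`b a b⁻¹ = a^r`, `b^n = a^t` and `a` of order `m`, the kernel consists of powers `c^k` of one
element `c` with `c^m = c^S = c^t = 1`, and `m ∣ (r-1) k`. -/
theorem upper_core {G : Type*} [Group G] [Finite Γ] (σ : Γ →* G)
    (hσ : IsStemExtension σ) (a b : G) (hgen : Subgroup.closure {a, b} = ⊤) (m n r t : ℕ)
    (hr : 0 < r) (ha : orderOf a = m) (hab : b * a * b⁻¹ = a ^ r) (hb : b ^ n = a ^ t) :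
    ∃ c : Γ, c ^ m = 1 ∧ c ^ (∑ i ∈ Finset.range n, r ^ i) = 1 ∧ c ^ t = 1 ∧
      ∀ z ∈ σ.ker, ∃ k : ℤ, z = c ^ k ∧ (m : ℤ) ∣ ((r - 1 : ℕ) : ℤ) * k := by
  obtain ⟨hs, hc, hd⟩ := hσ
  obtain ⟨A, hA⟩ := hs a
  obtain ⟨B, hB⟩ := hs b
  obtain ⟨ζ, hζdef⟩ : ∃ ζ, ζ = B * A * B⁻¹ * (A ^ r)⁻¹ := ⟨_, rfl⟩
  have hζk : ζ ∈ σ.ker := by
    rw [MonoidHom.mem_ker, hζdef, map_mul, map_mul, map_mul, map_inv, map_inv, map_pow, hA, hB,
      hab, mul_inv_cancel]
  have hζ : ζ ∈ Subgroup.center Γ := hc hζk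
  have h : B * A * B⁻¹ = ζ * A ^ r := by rw [hζdef, inv_mul_cancel_right]
  have hAm : A ^ m ∈ Subgroup.center Γ := by
    apply hc; rw [MonoidHom.mem_ker, map_pow, hA, ← ha, pow_orderOf_eq_one]
  have hβ : B ^ n * (A ^ t)⁻¹ ∈ Subgroup.center Γ := by
    apply hc
    rw [MonoidHom.mem_ker, map_mul, map_inv, map_pow, map_pow, hA, hB, hb, mul_inv_cancel]
  have c1 : Commute B (A ^ m) := Subgroup.mem_center_iff.1 hAm B
  have c2 : Commute (B ^ n) A := by
    have e : B ^ n = (B ^ n * (A ^ t)⁻¹) * A ^ t := by rw [inv_mul_cancel_right]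
    rw [e]
    exact Commute.mul_left ((Subgroup.mem_center_iff.1 hβ A).symm)
      (Commute.pow_left (Commute.refl A) t)
  have c3 : Commute B (A ^ t) := by
    have e : A ^ t = (B ^ n * (A ^ t)⁻¹)⁻¹ * B ^ n := by group
    rw [e]
    exact Commute.mul_right (Commute.inv_right (Subgroup.mem_center_iff.1 hβ B))
      (Commute.pow_right (Commute.refl B) n)
  obtain ⟨c, hcdef⟩ : ∃ c, c = ζ * A ^ (r - 1) := ⟨_, rfl⟩
  have hc1 : c ^ m = 1 := by rw [hcdef]; exact c_pow_eq_one_of_commute A B ζ hζ r hr h m c1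
  have hc2 : c ^ (∑ i ∈ Finset.range n, r ^ i) = 1 := by
    rw [hcdef]; exact c_pow_sum_eq_one A B ζ hζ r hr h n c2
  have hc3 : c ^ t = 1 := by rw [hcdef]; exact c_pow_eq_one_of_commute A B ζ hζ r hr h t c3
  have hBA : ⁅B, A⁆ = c := by rw [hcdef]; exact comm_eq_of A B ζ r hr h
  have hAc : Commute A c := by
    rw [hcdef]
    exact Commute.mul_right (Subgroup.mem_center_iff.1 hζ A) (Commute.pow_right (Commute.refl A) _)
  have hBc : B * c * B⁻¹ = c ^ r := by
    rw [hcdef, c_pow_of A ζ hζ]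
    have e : B * (ζ * A ^ (r - 1)) * B⁻¹ = ζ * (B * A ^ (r - 1) * B⁻¹) := by
      rw [← mul_assoc, Subgroup.mem_center_iff.1 hζ B]; simp only [mul_assoc]
    rw [e, conj_pow_of A B ζ hζ r h, ← mul_assoc, ← pow_succ', mul_comm r (r - 1)]
    have : r - 1 + 1 = r := by omega
    rw [this]
  -- generation modulo the centre
  have hX : Subgroup.closure {A, B} ⊔ Subgroup.center Γ = ⊤ := by
    rw [eq_top_iff]
    intro γ _
    have hmap : Subgroup.map σ (Subgroup.closure {A, B}) = ⊤ := by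
      rw [MonoidHom.map_closure, Set.image_pair, hA, hB, hgen]
    have : σ γ ∈ Subgroup.map σ (Subgroup.closure {A, B}) := by rw [hmap]; exact Subgroup.mem_top _
    obtain ⟨x, hx, hxγ⟩ := Subgroup.mem_map.1 this
    have hz : x⁻¹ * γ ∈ Subgroup.center Γ := by
      apply hc; rw [MonoidHom.mem_ker, map_mul, map_inv, hxγ, inv_mul_cancel]
    have : γ = x * (x⁻¹ * γ) := by group
    rw [this]
    exact Subgroup.mul_mem_sup hx hz
  have hnorm : (Subgroup.zpowers c).Normal := by
    rw [← Subgroup.normalizer_eq_top_iff, eq_top_iff, ← hX]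
    apply sup_le
    · rw [Subgroup.closure_le]
      intro x hx
      rcases hx with rfl | hx
      · apply Subgroup.mem_normalizer_fintype
        intro y hy
        obtain ⟨k, rfl⟩ := Subgroup.mem_zpowers_iff.1 hy
        rw [(hAc.zpow_right k).eq, mul_inv_cancel_right]; exact hy
      · rw [Set.mem_singleton_iff] at hx
        subst hx
        apply Subgroup.mem_normalizer_fintype
        intro y hy
        obtain ⟨k, rfl⟩ := Subgroup.mem_zpowers_iff.1 hy
        rw [← conj_zpow, hBc]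
        exact Subgroup.zpow_mem _ (Subgroup.pow_mem _ (Subgroup.mem_zpowers c) _) _
    · exact Subgroup.center_le_normalizer _
  have hcomm : commutator Γ ≤ Subgroup.zpowers c := by
    apply commutator_le_of_generators (Subgroup.zpowers c) {A, B} hX
    intro x hx y hy
    rcases hx with rfl | hx <;> rcases hy with rfl | hy
    · rw [commutatorElement_self]; exact Subgroup.one_mem _
    · rw [Set.mem_singleton_iff] at hy
      subst hy
      rw [← commutatorElement_inv, hBA]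
      exact Subgroup.inv_mem _ (Subgroup.mem_zpowers c)
    · rw [Set.mem_singleton_iff] at hx
      subst hx
      rw [hBA]; exact Subgroup.mem_zpowers c
    · rw [Set.mem_singleton_iff] at hx hy
      subst hx; subst hy
      rw [commutatorElement_self]; exact Subgroup.one_mem _
  have hσc : σ c = a ^ (r - 1) := by
    rw [hcdef, map_mul, MonoidHom.mem_ker.1 hζk, one_mul, map_pow, hA]
  refine ⟨c, hc1, hc2, hc3, ?_⟩
  intro z hz
  obtain ⟨k, hk⟩ := Subgroup.mem_zpowers_iff.1 (hcomm (hd hz))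
  refine ⟨k, hk.symm, ?_⟩
  rw [← ha, orderOf_dvd_iff_zpow_eq_one, zpow_mul, zpow_natCast, ← hσc, ← map_zpow, hk]
  exact MonoidHom.mem_ker.1 hz

/-- The upper bound: the kernel of a finite stem extension is a quotient of `ZMod (gcd l h)`. -/
theorem upper_bound {G : Type*} [Group G] [Finite Γ] (σ : Γ →* G)
    (hσ : IsStemExtension σ) (a b : G) (hgen : Subgroup.closure {a, b} = ⊤)
    (m n r l d μ ρ g h : ℕ) (hr : 0 < r)
    (hg : g = Nat.gcd m (∑ i ∈ Finset.range n, r ^ i)) (hmd : m = d * μ) (hrd : r - 1 = d * ρ)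
    (hcop : Nat.Coprime μ ρ) (hμh : μ * h = g) (hd : 0 < d)
    (ha : orderOf a = m) (hab : b * a * b⁻¹ = a ^ r) (hb : b ^ n = a ^ (μ * l)) :
    ∃ π : Multiplicative (ZMod (Nat.gcd l h)) →* σ.ker, Function.Surjective π := by
  obtain ⟨c, hc1, hc2, hc3, hker⟩ := upper_core σ hσ a b hgen m n r (μ * l) hr ha hab hb
  have hz0 : (c ^ μ) ^ Nat.gcd l h = 1 := by
    apply orderOf_dvd_iff_pow_eq_one.1
    apply Nat.dvd_gcd
    · apply orderOf_dvd_of_pow_eq_one
      rw [← pow_mul]; exact hc3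
    · apply orderOf_dvd_of_pow_eq_one
      rw [← pow_mul, hμh, hg]
      apply orderOf_dvd_iff_pow_eq_one.1
      exact Nat.dvd_gcd (orderOf_dvd_of_pow_eq_one hc1) (orderOf_dvd_of_pow_eq_one hc2)
  apply exists_surjective_zmod_of_le_zpowers hz0
  intro z hz
  obtain ⟨k, hk, hdvd⟩ := hker z hz
  have h1 : (μ : ℤ) ∣ k := by
    rw [hmd, hrd] at hdvd
    push_cast at hdvd
    rw [mul_assoc] at hdvd
    have h2 : (μ : ℤ) ∣ (ρ : ℤ) * k :=
      Int.dvd_of_mul_dvd_mul_left (by exact_mod_cast hd.ne') hdvd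
    have h3 : IsCoprime (μ : ℤ) (ρ : ℤ) := by
      rw [Int.isCoprime_iff_gcd_eq_one]
      exact_mod_cast hcop
    exact h3.dvd_of_dvd_mul_left h2
  obtain ⟨k', rfl⟩ := h1
  rw [hk, zpow_mul, zpow_natCast]
  exact Subgroup.zpow_mem _ (Subgroup.mem_zpowers _) _

end Upper

section Lower

theorem pow_gcd_mem_zpowers {Γ : Type*} [Group Γ] (x : Γ) (M k : ℕ) (hx : x ^ M = 1) :
    x ^ Nat.gcd M k ∈ Subgroup.zpowers (x ^ k) := by
  rw [Subgroup.mem_zpowers_iff]
  refine ⟨Nat.gcdB M k, ?_⟩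
  have h := Nat.gcd_eq_gcd_ab M k
  rw [← zpow_natCast x (Nat.gcd M k), h, zpow_add, zpow_mul, zpow_natCast, hx, one_zpow, one_mul,
    zpow_mul, zpow_natCast]

/-- The covering group: given a group `G` generated by `a, b` with the metacyclic relations and
the universal property for them, and suitable numbers, there is a finite stem extension with
kernel cyclic of order `N`. -/
theorem exists_cover {G : Type} [Group G] (a b : G) (hgen : Subgroup.closure {a, b} = ⊤)
    (m n r t N j : ℕ) (hm : 0 < m) (hn : 0 < n) (hr : 0 < r) (hN : 0 < N)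
    (ham : a ^ m = 1) (hab : b * a * b⁻¹ = a ^ r) (hb : b ^ n = a ^ t)
    (huniv : ∀ (H : Type) [Group H] (α β : H), α ^ m = 1 → β * α * β⁻¹ = α ^ r → β ^ n = α ^ t →
      ∃ f : G →* H, f a = α ∧ f b = β)
    (h1 : (r + m * j) ^ n ≡ 1 [MOD m * N]) (h2 : t * (r + m * j) ≡ t [MOD m * N])
    (h3 : m * N ∣ m * (r + m * j - 1)) (h4 : Nat.gcd (m * N) (r + m * j - 1) ∣ m) :
    ∃ (Γ : Type) (_ : Group Γ) (_ : Finite Γ) (σ : Γ →* G), IsStemExtension σ ∧
      Nonempty (σ.ker ≃* Multiplicative (ZMod N)) := by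
  obtain ⟨Γ, _, _, A, B, hAB, hord, hBA, hBn, hlift⟩ :=
    exists_metaModel (m * N) n (r + m * j) t (Nat.mul_pos hm hN) hn h1 h2
  have hapow : ∀ k : ℕ, a ^ (m * k) = 1 := fun k => by rw [pow_mul, ham, one_pow]
  obtain ⟨σ, hσA, hσB⟩ := hlift G a b (hapow N)
    (by rw [hab, pow_add, hapow, mul_one]) hb
  have hAMN : A ^ (m * N) = 1 := by rw [← hord]; exact pow_orderOf_eq_one A
  have hr' : r + m * j = (r + m * j - 1) + 1 := by omega
  -- `A ^ m` is central
  have hcen : A ^ m ∈ Subgroup.center Γ := by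
    have hle : Subgroup.closure {A, B} ≤ Subgroup.centralizer {A ^ m} := by
      rw [Subgroup.closure_le]
      intro x hx
      rw [SetLike.mem_coe, Subgroup.mem_centralizer_iff]
      intro y hy
      rw [Set.mem_singleton_iff] at hy
      subst hy
      rcases hx with rfl | hx
      · exact ((Commute.refl x).pow_left m).eq
      · rw [Set.mem_singleton_iff] at hx
        subst hx
        have e1 : x * A ^ m * x⁻¹ = A ^ m := by
          rw [← conj_pow, hBA, ← pow_mul]
          have e2 : (r + m * j) * m = m + m * (r + m * j - 1) := by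
            nth_rewrite 1 [hr']
            ring
          obtain ⟨q, hq⟩ := h3
          rw [e2, pow_add, hq, pow_mul, hAMN, one_pow, mul_one]
        exact (mul_inv_eq_iff_eq_mul.1 e1).symm
    rw [hAB] at hle
    rw [Subgroup.mem_center_iff]
    intro g
    exact (Subgroup.mem_centralizer_iff.1 (hle (Subgroup.mem_top g)) _ rfl).symm
  have hZc : Subgroup.zpowers (A ^ m) ≤ Subgroup.center Γ := by
    rw [Subgroup.zpowers_le]; exact hcen
  haveI hnorm : (Subgroup.zpowers (A ^ m)).Normal :=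
    ⟨fun x hx g => by
      have h := Subgroup.mem_center_iff.1 (hZc hx) g
      rw [h, mul_inv_cancel_right]
      exact hx⟩
  -- the kernel is `⟨A ^ m⟩`
  have hσAm : A ^ m ∈ σ.ker := by rw [MonoidHom.mem_ker, map_pow, hσA, ham]
  have hmk : QuotientGroup.mk' (Subgroup.zpowers (A ^ m)) (A ^ m) = 1 := by
    rw [QuotientGroup.mk'_apply, QuotientGroup.eq_one_iff]; exact Subgroup.mem_zpowers _
  obtain ⟨ψ, hψa, hψb⟩ := huniv (Γ ⧸ Subgroup.zpowers (A ^ m))
    (QuotientGroup.mk' _ A) (QuotientGroup.mk' _ B)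
    (by rw [← map_pow, hmk])
    (by rw [← map_inv, ← map_mul, ← map_mul, hBA, pow_add, pow_mul, map_mul, map_pow (QuotientGroup.mk' _) (A ^ m),
      hmk, one_pow, mul_one, map_pow])
    (by rw [← map_pow, hBn, map_pow])
  have hcomp : ψ.comp σ = QuotientGroup.mk' (Subgroup.zpowers (A ^ m)) := by
    apply MonoidHom.eq_of_eqOn_dense hAB
    intro x hx
    rcases hx with rfl | hx
    · rw [MonoidHom.comp_apply, hσA, hψa]
    · rw [Set.mem_singleton_iff] at hx
      subst hx
      rw [MonoidHom.comp_apply, hσB, hψb]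
  have hker : σ.ker = Subgroup.zpowers (A ^ m) := by
    apply le_antisymm
    · intro x hx
      have h5 : QuotientGroup.mk' (Subgroup.zpowers (A ^ m)) x = 1 := by
        rw [← hcomp, MonoidHom.comp_apply, MonoidHom.mem_ker.1 hx, map_one]
      rwa [QuotientGroup.mk'_apply, QuotientGroup.eq_one_iff] at h5
    · rw [Subgroup.zpowers_le]; exact hσAm
  -- `A ^ m` is in the derived subgroup
  have hder : A ^ m ∈ commutator Γ := by
    have e1 : ⁅B, A⁆ = A ^ (r + m * j - 1) := by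
      rw [commutatorElement_def, hBA]
      nth_rewrite 1 [hr']
      rw [pow_succ, mul_inv_cancel_right]
    have e2 : A ^ (r + m * j - 1) ∈ commutator Γ := by
      rw [← e1]
      exact Subgroup.commutator_mem_commutator (Subgroup.mem_top _) (Subgroup.mem_top _)
    have e3 : A ^ Nat.gcd (m * N) (r + m * j - 1) ∈ commutator Γ :=
      (Subgroup.zpowers_le.2 e2) (pow_gcd_mem_zpowers A (m * N) (r + m * j - 1) hAMN)
    obtain ⟨q, hq⟩ := h4
    have e4 : A ^ m = (A ^ Nat.gcd (m * N) (r + m * j - 1)) ^ q := by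
      rw [← pow_mul, ← hq]
    rw [e4]
    exact Subgroup.pow_mem _ e3 _
  have hordAm : orderOf (A ^ m) = N := by
    rw [orderOf_pow' A hm.ne', hord, Nat.gcd_eq_right (Dvd.intro _ rfl),
      Nat.mul_div_cancel_left _ hm]
  refine ⟨Γ, inferInstance, inferInstance, σ, ⟨?_, ?_, ?_⟩, ?_⟩
  · rw [← MonoidHom.range_eq_top, eq_top_iff, ← hgen, Subgroup.closure_le]
    intro x hx
    rcases hx with rfl | hx
    · exact ⟨A, hσA⟩
    · rw [Set.mem_singleton_iff] at hx
      subst hx
      exact ⟨B, hσB⟩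
  · rw [hker]; exact hZc
  · rw [hker, Subgroup.zpowers_le]; exact hder
  · rw [hker]
    have e := zmodCyclicMulEquiv (G := Subgroup.zpowers (A ^ m)) inferInstance
    rw [Nat.card_zpowers, hordAm] at e
    exact ⟨e.symm⟩

end Lower

section Presented

/-- The relators of the metacyclic presentation. -/
def rels (m n r t : ℕ) : Set (FreeGroup Bool) :=
  {FreeGroup.of true ^ m, (FreeGroup.of false) ^ n * (FreeGroup.of true ^ t)⁻¹,
    FreeGroup.of false * FreeGroup.of true * (FreeGroup.of false)⁻¹ * (FreeGroup.of true ^ r)⁻¹}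

variable (m n r t : ℕ)

theorem pres_pow : (PresentedGroup.of true : PresentedGroup (rels m n r t)) ^ m = 1 := by
  have h : PresentedGroup.mk (rels m n r t) (FreeGroup.of true ^ m) = 1 :=
    PresentedGroup.one_of_mem (by unfold rels; simp)
  rw [map_pow] at h
  exact h

theorem pres_pow_n : (PresentedGroup.of false : PresentedGroup (rels m n r t)) ^ n =
    (PresentedGroup.of true : PresentedGroup (rels m n r t)) ^ t := by
  have h : PresentedGroup.mk (rels m n r t)
      ((FreeGroup.of false) ^ n * (FreeGroup.of true ^ t)⁻¹) = 1 :=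
    PresentedGroup.one_of_mem (by unfold rels; simp)
  rw [map_mul, map_inv, map_pow, map_pow, mul_inv_eq_one] at h
  exact h

theorem pres_conj : (PresentedGroup.of false : PresentedGroup (rels m n r t)) *
    PresentedGroup.of true * (PresentedGroup.of false)⁻¹ =
    (PresentedGroup.of true : PresentedGroup (rels m n r t)) ^ r := by
  have h : PresentedGroup.mk (rels m n r t)
      (FreeGroup.of false * FreeGroup.of true * (FreeGroup.of false)⁻¹ *
        (FreeGroup.of true ^ r)⁻¹) = 1 :=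
    PresentedGroup.one_of_mem (by unfold rels; simp)
  rw [map_mul, map_inv, map_pow, map_mul, map_mul, map_inv, mul_inv_eq_one] at h
  exact h

theorem pres_closure : Subgroup.closure
    {(PresentedGroup.of true : PresentedGroup (rels m n r t)), PresentedGroup.of false} = ⊤ := by
  rw [← PresentedGroup.closure_range_of]
  congr 1
  ext x
  constructor
  · rintro (rfl | rfl)
    · exact ⟨true, rfl⟩
    · exact ⟨false, rfl⟩
  · rintro ⟨c, rfl⟩
    cases c
    · right; rfl
    · left; rfl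

theorem pres_univ (H : Type) [Group H] (α β : H) (h1 : α ^ m = 1) (h2 : β * α * β⁻¹ = α ^ r)
    (h3 : β ^ n = α ^ t) :
    ∃ f : PresentedGroup (rels m n r t) →* H,
      f (PresentedGroup.of true) = α ∧ f (PresentedGroup.of false) = β := by
  have hrel : ∀ x ∈ rels m n r t, FreeGroup.lift (fun c : Bool => if c then α else β) x = 1 := by
    intro x hx
    unfold rels at hx
    rcases hx with rfl | rfl | hx
    · rw [map_pow, FreeGroup.lift_apply_of]; exact h1
    · rw [map_mul, map_inv, map_pow, map_pow, FreeGroup.lift_apply_of, FreeGroup.lift_apply_of,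
        mul_inv_eq_one]
      exact h3
    · rw [Set.mem_singleton_iff] at hx
      subst hx
      rw [map_mul, map_inv, map_pow, map_mul, map_mul, map_inv, FreeGroup.lift_apply_of,
        FreeGroup.lift_apply_of, mul_inv_eq_one]
      exact h2
  exact ⟨PresentedGroup.toGroup hrel, PresentedGroup.toGroup.of hrel,
    PresentedGroup.toGroup.of hrel⟩

/-- The Schur multiplier of the metacyclic presented group. -/
theorem metacyclic_multiplier (l : ℕ) (hm : 0 < m) (hn : 0 < n) (hr : 0 < r)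
    (hrn : r ^ n ≡ 1 [MOD m]) :
    HasCyclicSchurMultiplier (PresentedGroup (rels m n r (m * l / Nat.gcd m (r - 1))))
      (Nat.gcd l (Nat.gcd m (r - 1) * Nat.gcd m (∑ i ∈ Finset.range n, r ^ i) / m)) := by
  obtain ⟨d, μ, ρ, g, h, hd, hg, hh, hmd, hrd, hcop, hμh, hdpos, hμpos, hhpos⟩ :=
    basic m n r hm hr hrn
  rw [← hd, ← hg, ← hh]
  have ht : m * l / d = μ * l := by
    rw [hmd, mul_assoc, Nat.mul_div_cancel_left _ hdpos]
  rw [ht]
  -- the order of `a`
  have htr : μ * l * r ≡ μ * l [MOD m] := by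
    have h1 : μ * l * r = μ * l + m * (l * ρ) := by
      have : r = (r - 1) + 1 := by omega
      nth_rewrite 1 [this]
      rw [hrd, hmd]; ring
    rw [h1]
    exact Nat.ModEq.symm (Nat.modEq_iff_dvd' (Nat.le_add_right _ _) |>.2 (by simp))
  have hord : orderOf (PresentedGroup.of true : PresentedGroup (rels m n r (μ * l))) = m := by
    obtain ⟨Γ, _, _, A, B, hAB, hordA, hBA, hBn, hlift⟩ :=
      exists_metaModel m n r (μ * l) hm hn hrn htr
    obtain ⟨f, hfa, hfb⟩ := pres_univ m n r (μ * l) Γ A B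
      (by rw [← hordA]; exact pow_orderOf_eq_one A) hBA hBn
    apply Nat.dvd_antisymm
    · exact orderOf_dvd_of_pow_eq_one (pres_pow m n r (μ * l))
    · have := orderOf_map_dvd f (PresentedGroup.of true : PresentedGroup (rels m n r (μ * l)))
      rwa [hfa, hordA] at this
  constructor
  · obtain ⟨j, h1, h2, h3, h4⟩ := cover_params m n r l d μ ρ g h hr hg hmd hrd hcop hμh hμpos hhpos
    exact exists_cover (PresentedGroup.of true) (PresentedGroup.of false)
      (pres_closure m n r (μ * l)) m n r (μ * l) (Nat.gcd l h) j hm hn hr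
      (Nat.gcd_pos_of_pos_right _ hhpos) (pres_pow m n r (μ * l)) (pres_conj m n r (μ * l))
      (pres_pow_n m n r (μ * l)) (pres_univ m n r (μ * l)) h1 h2 h3 h4
  · intro Γ _ _ σ hσ
    exact upper_bound σ hσ (PresentedGroup.of true) (PresentedGroup.of false)
      (pres_closure m n r (μ * l)) m n r l d μ ρ g h hr hg hmd hrd hcop hμh hdpos hord
      (pres_conj m n r (μ * l)) (pres_pow_n m n r (μ * l))

end Presented

end Cfsg.Agent.H41.Meta
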