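import Mathlib
import Cfsg.Agent.H41.SchurCover2

/-!
# Central extensions of a direct product (helper41)

For a central extension `τ : Δ → Q₁ × Q₂` with `D₁ = τ⁻¹(Q₁ × 1)`, `D₂ = τ⁻¹(1 × Q₂)`:
* `commutator_le_sup`: `Δ' ≤ D₁' ⊔ D₂' ⊔ ⁅D₁, D₂⁆`;
* `ker_decomp`: an element of `ker τ ⊓ Δ'` is `d₁ d₂ c` with `dᵢ ∈ ker τ ⊓ Dᵢ'`, `c ∈ ⁅D₁, D₂⁆`;
* `exists_hom_onto₁/₂`: `ker τ ⊓ Dᵢ'` is an image of the multiplier of `Qᵢ`;
* `pairing`: the commutator pairing `Q₁ᵃᵇ → Q₂ᵃᵇ → Z(Δ)`.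
-/

set_option autoImplicit false

namespace Cfsg.Agent.H41

open Cfsg

open scoped commutatorElement

universe u v w

/-- If a generating set commutes modulo a normal subgroup `M`, then `E' ≤ M`. -/
theorem commutator_le_of_generators {E : Type*} [Group E] (M : Subgroup E) [M.Normal]
    (T : Set E) (hT : Subgroup.closure T = ⊤) (h : ∀ a ∈ T, ∀ b ∈ T, ⁅a, b⁆ ∈ M) :
    commutator E ≤ M := by
  have hS : Subgroup.closure (QuotientGroup.mk' M '' T) = ⊤ := by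
    rw [← MonoidHom.map_closure, hT, ← MonoidHom.range_eq_map, MonoidHom.range_eq_top]
    exact QuotientGroup.mk'_surjective M
  have hSc : ∀ a ∈ QuotientGroup.mk' M '' T, ∀ b ∈ QuotientGroup.mk' M '' T, a * b = b * a := by
    rintro _ ⟨a, ha, rfl⟩ _ ⟨b, hb, rfl⟩
    have h1 : QuotientGroup.mk' M ⁅a, b⁆ = 1 := (QuotientGroup.eq_one_iff _).2 (h a ha b hb)
    rw [map_commutatorElement, commutatorElement_eq_one_iff_mul_comm] at h1
    exact h1
  have hQ := comm_of_closure_eq_top hS hSc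
  rw [commutator_def, Subgroup.commutator_le]
  intro g₁ _ g₂ _
  rw [← QuotientGroup.eq_one_iff (N := M)]
  show QuotientGroup.mk' M ⁅g₁, g₂⁆ = 1
  rw [map_commutatorElement, commutatorElement_eq_one_iff_mul_comm]
  exact hQ _ _

section prod

variable {Q₁ : Type u} {Q₂ : Type v} {Δ : Type w} [Group Q₁] [Group Q₂] [Group Δ]

/-- Elements of `Δ` lying over `Q₁ × 1`. -/
def overFst (τ : Δ →* Q₁ × Q₂) : Subgroup Δ := ((MonoidHom.snd Q₁ Q₂).comp τ).ker

/-- Elements of `Δ` lying over `1 × Q₂`. -/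
def overSnd (τ : Δ →* Q₁ × Q₂) : Subgroup Δ := ((MonoidHom.fst Q₁ Q₂).comp τ).ker

instance overFst_normal (τ : Δ →* Q₁ × Q₂) : (overFst τ).Normal := by
  unfold overFst; infer_instance

instance overSnd_normal (τ : Δ →* Q₁ × Q₂) : (overSnd τ).Normal := by
  unfold overSnd; infer_instance

theorem mem_overFst {τ : Δ →* Q₁ × Q₂} {x : Δ} : x ∈ overFst τ ↔ (τ x).2 = 1 := Iff.rfl

theorem mem_overSnd {τ : Δ →* Q₁ × Q₂} {x : Δ} : x ∈ overSnd τ ↔ (τ x).1 = 1 := Iff.rfl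

variable (τ : Δ →* Q₁ × Q₂)

theorem overFst_sup_overSnd (hτ : Function.Surjective τ) : overFst τ ⊔ overSnd τ = ⊤ := by
  rw [eq_top_iff]
  intro d _
  obtain ⟨x, hx⟩ := hτ ((τ d).1, 1)
  have h1 : x ∈ overFst τ := by rw [mem_overFst, hx]
  have h2 : x⁻¹ * d ∈ overSnd τ := by
    rw [mem_overSnd, map_mul, map_inv, hx]
    simp
  have h3 : d = x * (x⁻¹ * d) := by group
  rw [h3]
  exact Subgroup.mul_mem_sup h1 h2

theorem commutator_overFst_overSnd_le_ker : ⁅overFst τ, overSnd τ⁆ ≤ τ.ker := by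
  rw [Subgroup.commutator_le]
  intro x hx y hy
  rw [MonoidHom.mem_ker, map_commutatorElement, commutatorElement_eq_one_iff_mul_comm]
  rw [mem_overFst] at hx
  rw [mem_overSnd] at hy
  ext
  · simp [hy]
  · simp [hx]

theorem commutator_le_sup (hτ : Function.Surjective τ) :
    commutator Δ ≤ (⁅overFst τ, overFst τ⁆ ⊔ ⁅overSnd τ, overSnd τ⁆) ⊔
      ⁅overFst τ, overSnd τ⁆ := by
  apply commutator_le_of_generators _ ((overFst τ : Set Δ) ∪ (overSnd τ : Set Δ))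
  · rw [Subgroup.closure_union, Subgroup.closure_eq, Subgroup.closure_eq]
    exact overFst_sup_overSnd τ hτ
  · rintro a (ha | ha) b (hb | hb)
    · exact Subgroup.mem_sup_left (Subgroup.mem_sup_left
        (Subgroup.commutator_mem_commutator ha hb))
    · exact Subgroup.mem_sup_right (Subgroup.commutator_mem_commutator ha hb)
    · have h1 : ⁅a, b⁆ = ⁅b, a⁆⁻¹ := (commutatorElement_inv b a).symm
      rw [h1]
      exact Subgroup.mem_sup_right (Subgroup.inv_mem _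
        (Subgroup.commutator_mem_commutator hb ha))
    · exact Subgroup.mem_sup_left (Subgroup.mem_sup_right
        (Subgroup.commutator_mem_commutator ha hb))

theorem commutator_overFst_le : ⁅overFst τ, overFst τ⁆ ≤ overFst τ :=
  Subgroup.commutator_le_left _ _

theorem commutator_overSnd_le : ⁅overSnd τ, overSnd τ⁆ ≤ overSnd τ :=
  Subgroup.commutator_le_left _ _

/-- Decomposition of the kernel inside the derived subgroup. -/
theorem ker_decomp (hτ : Function.Surjective τ) {k : Δ} (hk : k ∈ τ.ker)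
    (hk' : k ∈ commutator Δ) :
    ∃ d₁ ∈ ⁅overFst τ, overFst τ⁆, ∃ d₂ ∈ ⁅overSnd τ, overSnd τ⁆, ∃ c ∈ ⁅overFst τ, overSnd τ⁆,
      τ d₁ = 1 ∧ τ d₂ = 1 ∧ k = d₁ * d₂ * c := by
  have h1 := commutator_le_sup τ hτ hk'
  obtain ⟨m, hm, c, hc, rfl⟩ := Subgroup.mem_sup_of_normal_right.1 h1
  obtain ⟨d₁, hd₁, d₂, hd₂, rfl⟩ := Subgroup.mem_sup_of_normal_right.1 hm
  have hc1 : τ c = 1 := MonoidHom.mem_ker.1 (commutator_overFst_overSnd_le_ker τ hc)
  have h2 : τ d₁ * τ d₂ = 1 := by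
    have := MonoidHom.mem_ker.1 hk
    rw [map_mul, map_mul, hc1, mul_one] at this
    exact this
  have h3 : (τ d₁).2 = 1 := mem_overFst.1 (commutator_overFst_le τ hd₁)
  have h4 : (τ d₂).1 = 1 := mem_overSnd.1 (commutator_overSnd_le τ hd₂)
  have h5 : (τ d₁).1 = 1 := by
    have := congrArg Prod.fst h2
    simpa [h4] using this
  have h6 : (τ d₂).2 = 1 := by
    have := congrArg Prod.snd h2
    simpa [h3] using this
  exact ⟨d₁, hd₁, d₂, hd₂, c, hc, Prod.ext h5 h3, Prod.ext h4 h6, rfl⟩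

/-- The multiplier of `Q₁` maps onto `ker τ ⊓ D₁'`. -/
theorem exists_hom_onto₁ (hτ : Function.Surjective τ) (hc : τ.ker ≤ Subgroup.center Δ)
    {A : Type*} [CommGroup A] (hA : HasSchurMultiplier Q₁ A) :
    ∃ g : A →* Δ, (∀ a, τ (g a) = 1) ∧
      ∀ d ∈ ⁅overFst τ, overFst τ⁆, τ d = 1 → ∃ a, g a = d := by
  let τ₁ : overFst τ →* Q₁ := (MonoidHom.fst Q₁ Q₂).comp (τ.comp (overFst τ).subtype)
  have hτ₁ : ∀ x : overFst τ, τ (x : Δ) = (τ₁ x, 1) := fun x => Prod.ext rfl x.2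
  have hs : Function.Surjective τ₁ := by
    intro q
    obtain ⟨x, hx⟩ := hτ (q, 1)
    exact ⟨⟨x, by rw [mem_overFst, hx]⟩, by show (τ x).1 = q; rw [hx]⟩
  have hcen : τ₁.ker ≤ Subgroup.center (overFst τ) := by
    intro x hx
    have h1 : (x : Δ) ∈ Subgroup.center Δ := by
      apply hc
      rw [MonoidHom.mem_ker, hτ₁, MonoidHom.mem_ker.1 hx]
      rfl
    rw [Subgroup.mem_center_iff] at h1 ⊢
    intro g
    exact Subtype.ext (h1 g)
  obtain ⟨f, hf⟩ := exists_surjective_ker_inf_commutator hA τ₁ hs hcen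
  refine ⟨(overFst τ).subtype.comp ((Subgroup.subtype _).comp f), ?_, ?_⟩
  · intro a
    show τ ((f a : overFst τ) : Δ) = 1
    rw [hτ₁, MonoidHom.mem_ker.1 (f a).2.1]
    rfl
  · intro d hd hd1
    rw [← Subgroup.map_subtype_commutator] at hd
    obtain ⟨w, hw, rfl⟩ := hd
    have hw1 : w ∈ τ₁.ker := by
      rw [MonoidHom.mem_ker]
      have := congrArg Prod.fst hd1
      exact this
    obtain ⟨a, ha⟩ := hf ⟨w, hw1, hw⟩
    refine ⟨a, ?_⟩
    show ((f a : overFst τ) : Δ) = _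
    rw [ha]
    rfl

/-- Swapping the factors. -/
def swapHom : Δ →* Q₂ × Q₁ := (MulEquiv.prodComm : Q₁ × Q₂ ≃* Q₂ × Q₁).toMonoidHom.comp τ

theorem swapHom_apply (x : Δ) : swapHom τ x = ((τ x).2, (τ x).1) := rfl

theorem overFst_swapHom : overFst (swapHom τ) = overSnd τ := rfl

theorem overSnd_swapHom : overSnd (swapHom τ) = overFst τ := rfl

/-- The multiplier of `Q₂` maps onto `ker τ ⊓ D₂'`. -/
theorem exists_hom_onto₂ (hτ : Function.Surjective τ) (hc : τ.ker ≤ Subgroup.center Δ)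
    {B : Type*} [CommGroup B] (hB : HasSchurMultiplier Q₂ B) :
    ∃ g : B →* Δ, (∀ a, τ (g a) = 1) ∧
      ∀ d ∈ ⁅overSnd τ, overSnd τ⁆, τ d = 1 → ∃ a, g a = d := by
  have hker : (swapHom τ).ker = τ.ker := by
    ext x
    rw [MonoidHom.mem_ker, MonoidHom.mem_ker, swapHom_apply]
    constructor
    · intro h
      exact Prod.ext (congrArg Prod.snd h) (congrArg Prod.fst h)
    · intro h
      rw [h]; rfl
  have hs : Function.Surjective (swapHom τ) :=
    (MulEquiv.prodComm : Q₁ × Q₂ ≃* Q₂ × Q₁).surjective.comp hτ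
  obtain ⟨g, hg1, hg2⟩ := exists_hom_onto₁ (swapHom τ) hs (by rw [hker]; exact hc) hB
  refine ⟨g, ?_, ?_⟩
  · intro a
    have := hg1 a
    rw [← MonoidHom.mem_ker, hker] at this
    exact this
  · intro d hd hd1
    rw [overFst_swapHom] at hg2
    apply hg2 d hd
    rw [← MonoidHom.mem_ker, hker]
    exact hd1

end prod

section bimul

variable {E : Type*} [Group E]

theorem commutatorElement_mul_left_of_central (x x' y : E) (h : ⁅x', y⁆ ∈ Subgroup.center E) :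
    ⁅x * x', y⁆ = ⁅x, y⁆ * ⁅x', y⁆ := by
  have h1 : ⁅x * x', y⁆ = x * ⁅x', y⁆ * x⁻¹ * ⁅x, y⁆ := by
    simp only [commutatorElement_def]; group
  rw [Subgroup.mem_center_iff] at h
  rw [h1, h x, mul_inv_cancel_right, h]

theorem commutatorElement_mul_right_of_central (x y y' : E) (h : ⁅x, y'⁆ ∈ Subgroup.center E) :
    ⁅x, y * y'⁆ = ⁅x, y⁆ * ⁅x, y'⁆ := by
  have h1 : ⁅x, y * y'⁆ = ⁅x, y⁆ * (y * ⁅x, y'⁆ * y⁻¹) := by
    simp only [commutatorElement_def]; group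
  rw [Subgroup.mem_center_iff] at h
  rw [h1, h y, mul_inv_cancel_right]

theorem map_commutator_le {G H : Type*} [Group G] [Group H] (f : G →* H) :
    Subgroup.map f (commutator G) ≤ commutator H := by
  rw [commutator_def, commutator_def, Subgroup.map_commutator]
  exact Subgroup.commutator_mono le_top le_top

end bimul

section pairing

open scoped IsMulCommutative

variable {Q₁ : Type u} {Q₂ : Type v} {Δ : Type w} [Group Q₁] [Group Q₂] [Group Δ]
  (τ : Δ →* Q₁ × Q₂)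

theorem commutator_eq_of_map_eq (hc : τ.ker ≤ Subgroup.center Δ) {x x' y y' : Δ}
    (hx : τ x = τ x') (hy : τ y = τ y') : ⁅x, y⁆ = ⁅x', y'⁆ := by
  have h1 : x'⁻¹ * x ∈ Subgroup.center Δ := by
    apply hc
    rw [MonoidHom.mem_ker, map_mul, map_inv, hx, inv_mul_cancel]
  have h2 : y'⁻¹ * y ∈ Subgroup.center Δ := by
    apply hc
    rw [MonoidHom.mem_ker, map_mul, map_inv, hy, inv_mul_cancel]
  have h3 : x = x' * (x'⁻¹ * x) := by group
  have h4 : y = y' * (y'⁻¹ * y) := by group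
  rw [h3, h4, commutatorElement_mul_center h1 h2]

theorem commutator_mem_center_of_over (hc : τ.ker ≤ Subgroup.center Δ) {x y : Δ}
    (hx : x ∈ overFst τ) (hy : y ∈ overSnd τ) : ⁅x, y⁆ ∈ Subgroup.center Δ :=
  hc (commutator_overFst_overSnd_le_ker τ (Subgroup.commutator_mem_commutator hx hy))

theorem surjInv_mem_overFst (hτ : Function.Surjective τ) (q : Q₁) :
    Function.surjInv hτ (q, 1) ∈ overFst τ := by
  rw [mem_overFst, Function.surjInv_eq hτ]

theorem surjInv_mem_overSnd (hτ : Function.Surjective τ) (q : Q₂) :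
    Function.surjInv hτ (1, q) ∈ overSnd τ := by
  rw [mem_overSnd, Function.surjInv_eq hτ]

/-- The commutator pairing `Q₁ → Q₂ → Z(Δ)` of a central extension of `Q₁ × Q₂`. -/
noncomputable def pairing₀ (hτ : Function.Surjective τ) (hc : τ.ker ≤ Subgroup.center Δ) :
    Q₁ →* Q₂ →* Subgroup.center Δ :=
  MonoidHom.mk' (fun q₁ => MonoidHom.mk' (fun q₂ =>
      (⟨⁅Function.surjInv hτ (q₁, 1), Function.surjInv hτ (1, q₂)⁆,
        commutator_mem_center_of_over τ hc (surjInv_mem_overFst τ hτ q₁)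
          (surjInv_mem_overSnd τ hτ q₂)⟩ : Subgroup.center Δ))
    (fun q₂ q₂' => by
      apply Subtype.ext
      show ⁅Function.surjInv hτ (q₁, 1), Function.surjInv hτ (1, q₂ * q₂')⁆ =
        ⁅Function.surjInv hτ (q₁, 1), Function.surjInv hτ (1, q₂)⁆ *
          ⁅Function.surjInv hτ (q₁, 1), Function.surjInv hτ (1, q₂')⁆
      rw [← commutatorElement_mul_right_of_central _ _ _
        (commutator_mem_center_of_over τ hc (surjInv_mem_overFst τ hτ q₁)
          (surjInv_mem_overSnd τ hτ q₂'))]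
      apply commutator_eq_of_map_eq τ hc rfl
      rw [map_mul, Function.surjInv_eq hτ, Function.surjInv_eq hτ, Function.surjInv_eq hτ]
      ext <;> simp))
    (fun q₁ q₁' => by
      refine MonoidHom.ext (fun q₂ => ?_)
      apply Subtype.ext
      show ⁅Function.surjInv hτ (q₁ * q₁', 1), Function.surjInv hτ (1, q₂)⁆ =
        ⁅Function.surjInv hτ (q₁, 1), Function.surjInv hτ (1, q₂)⁆ *
          ⁅Function.surjInv hτ (q₁', 1), Function.surjInv hτ (1, q₂)⁆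
      rw [← commutatorElement_mul_left_of_central _ _ _
        (commutator_mem_center_of_over τ hc (surjInv_mem_overFst τ hτ q₁')
          (surjInv_mem_overSnd τ hτ q₂))]
      apply commutator_eq_of_map_eq τ hc _ rfl
      rw [map_mul, Function.surjInv_eq hτ, Function.surjInv_eq hτ, Function.surjInv_eq hτ]
      ext <;> simp)

theorem pairing₀_apply (hτ : Function.Surjective τ) (hc : τ.ker ≤ Subgroup.center Δ) {x y : Δ}
    (hx : x ∈ overFst τ) (hy : y ∈ overSnd τ) :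
    ((pairing₀ τ hτ hc (τ x).1 (τ y).2 : Subgroup.center Δ) : Δ) = ⁅x, y⁆ := by
  show ⁅Function.surjInv hτ ((τ x).1, 1), Function.surjInv hτ (1, (τ y).2)⁆ = ⁅x, y⁆
  apply commutator_eq_of_map_eq τ hc
  · rw [Function.surjInv_eq hτ]
    exact Prod.ext rfl (mem_overFst.1 hx).symm
  · rw [Function.surjInv_eq hτ]
    exact Prod.ext (mem_overSnd.1 hy).symm rfl

/-- The commutator pairing on the abelianisations. -/
noncomputable def pairing (hτ : Function.Surjective τ) (hc : τ.ker ≤ Subgroup.center Δ) :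
    Abelianization Q₁ →* Abelianization Q₂ →* Subgroup.center Δ :=
  (Abelianization.lift ((Abelianization.lift (pairing₀ τ hτ hc)).flip)).flip

theorem pairing_of (hτ : Function.Surjective τ) (hc : τ.ker ≤ Subgroup.center Δ) (q₁ : Q₁)
    (q₂ : Q₂) : pairing τ hτ hc (Abelianization.of q₁) (Abelianization.of q₂) =
      pairing₀ τ hτ hc q₁ q₂ := rfl

theorem pairing_apply (hτ : Function.Surjective τ) (hc : τ.ker ≤ Subgroup.center Δ) {x y : Δ}
    (hx : x ∈ overFst τ) (hy : y ∈ overSnd τ) :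
    ((pairing τ hτ hc (Abelianization.of (τ x).1) (Abelianization.of (τ y).2) :
      Subgroup.center Δ) : Δ) = ⁅x, y⁆ := by
  rw [pairing_of]
  exact pairing₀_apply τ hτ hc hx hy

/-- If the abelianisations have coprime orders, `D₁` and `D₂` commute. -/
theorem commutator_overFst_overSnd_eq_bot [Finite Q₁] [Finite Q₂] (hτ : Function.Surjective τ)
    (hc : τ.ker ≤ Subgroup.center Δ)
    (hcop : Nat.Coprime (Nat.card (Abelianization Q₁)) (Nat.card (Abelianization Q₂))) :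
    ⁅overFst τ, overSnd τ⁆ = ⊥ := by
  rw [eq_bot_iff, Subgroup.commutator_le]
  intro x hx y hy
  rw [Subgroup.mem_bot, ← pairing_apply τ hτ hc hx hy]
  obtain ⟨a, ha⟩ : ∃ a, a = Abelianization.of (τ x).1 := ⟨_, rfl⟩
  obtain ⟨b, hb⟩ : ∃ b, b = Abelianization.of (τ y).2 := ⟨_, rfl⟩
  rw [← ha, ← hb]
  have h1 : (pairing τ hτ hc a b) ^ Nat.card (Abelianization Q₁) = 1 := by
    rw [← MonoidHom.pow_apply, ← map_pow, pow_card_eq_one', map_one]
    rfl
  have h2 : (pairing τ hτ hc a b) ^ Nat.card (Abelianization Q₂) = 1 := by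
    rw [← map_pow, pow_card_eq_one', map_one]
  have h3 : orderOf (pairing τ hτ hc a b) ∣ 1 := by
    have := Nat.dvd_gcd (orderOf_dvd_of_pow_eq_one h1) (orderOf_dvd_of_pow_eq_one h2)
    rwa [Nat.Coprime.gcd_eq_one hcop] at this
  have h4 : pairing τ hτ hc a b = 1 := orderOf_eq_one_iff.1 (Nat.dvd_one.1 h3)
  rw [h4]
  rfl

end pairing

section assemble

variable {Q₁ : Type u} {Q₂ : Type v} [Group Q₁] [Group Q₂]

/-- Upper bound for the multiplier of a product with coprime abelianisations. -/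
theorem exists_surjective_prod_of_coprime [Finite Q₁] [Finite Q₂] {A B : Type*} [CommGroup A]
    [CommGroup B] (hA : HasSchurMultiplier Q₁ A) (hB : HasSchurMultiplier Q₂ B)
    (hcop : Nat.Coprime (Nat.card (Abelianization Q₁)) (Nat.card (Abelianization Q₂)))
    {Δ : Type w} [Group Δ] (τ : Δ →* Q₁ × Q₂) (hτ : IsStemExtension τ) :
    ∃ π : A × B →* τ.ker, Function.Surjective π := by
  obtain ⟨hs, hc, hd⟩ := hτ
  obtain ⟨g₁, hg₁, hg₁'⟩ := exists_hom_onto₁ τ hs hc hA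
  obtain ⟨g₂, hg₂, hg₂'⟩ := exists_hom_onto₂ τ hs hc hB
  have hcomm : ∀ a b, Commute (g₁ a) (g₂ b) := fun a b =>
    (Subgroup.mem_center_iff.1 (hc (MonoidHom.mem_ker.2 (hg₂ b))) (g₁ a))
  have hbot := commutator_overFst_overSnd_eq_bot τ hs hc hcop
  refine ⟨MonoidHom.codRestrict (MonoidHom.noncommCoprod g₁ g₂ hcomm) τ.ker (fun p => ?_), ?_⟩
  · rw [MonoidHom.mem_ker, MonoidHom.noncommCoprod_apply, map_mul, hg₁, hg₂, one_mul]
  · rintro ⟨k, hk⟩
    obtain ⟨d₁, hd₁, d₂, hd₂, c, hcc, h1, h2, rfl⟩ := ker_decomp τ hs hk (hd hk)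
    rw [hbot, Subgroup.mem_bot] at hcc
    obtain ⟨a, rfl⟩ := hg₁' d₁ hd₁ h1
    obtain ⟨b, rfl⟩ := hg₂' d₂ hd₂ h2
    refine ⟨(a, b), Subtype.ext ?_⟩
    show g₁ a * g₂ b = g₁ a * g₂ b * c
    rw [hcc, mul_one]

variable {Γ₁ : Type*} {Γ₂ : Type*} [Group Γ₁] [Group Γ₂]

theorem isStemExtension_prodMap (σ₁ : Γ₁ →* Q₁) (σ₂ : Γ₂ →* Q₂) (h₁ : IsStemExtension σ₁)
    (h₂ : IsStemExtension σ₂) : IsStemExtension (MonoidHom.prodMap σ₁ σ₂) := by
  obtain ⟨hs₁, hc₁, hd₁⟩ := h₁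
  obtain ⟨hs₂, hc₂, hd₂⟩ := h₂
  refine ⟨Prod.map_surjective.2 ⟨hs₁, hs₂⟩, ?_, ?_⟩
  · rintro ⟨k₁, k₂⟩ hk
    have hk' : (σ₁ k₁, σ₂ k₂) = 1 := hk
    have hk₁ : k₁ ∈ Subgroup.center Γ₁ := hc₁ (MonoidHom.mem_ker.2 (congrArg Prod.fst hk'))
    have hk₂ : k₂ ∈ Subgroup.center Γ₂ := hc₂ (MonoidHom.mem_ker.2 (congrArg Prod.snd hk'))
    rw [Subgroup.mem_center_iff] at hk₁ hk₂ ⊢
    rintro ⟨g₁, g₂⟩
    exact Prod.ext (hk₁ g₁) (hk₂ g₂)
  · rintro ⟨k₁, k₂⟩ hk
    have hk' : (σ₁ k₁, σ₂ k₂) = 1 := hk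
    have hk₁ : k₁ ∈ commutator Γ₁ := hd₁ (MonoidHom.mem_ker.2 (congrArg Prod.fst hk'))
    have hk₂ : k₂ ∈ commutator Γ₂ := hd₂ (MonoidHom.mem_ker.2 (congrArg Prod.snd hk'))
    have h1 : (k₁, k₂) = MonoidHom.inl Γ₁ Γ₂ k₁ * MonoidHom.inr Γ₁ Γ₂ k₂ := by
      ext <;> simp
    rw [h1]
    exact Subgroup.mul_mem _ (map_commutator_le (MonoidHom.inl Γ₁ Γ₂) ⟨k₁, hk₁, rfl⟩)
      (map_commutator_le (MonoidHom.inr Γ₁ Γ₂) ⟨k₂, hk₂, rfl⟩)

/-- The kernel of a product map is the product of the kernels. -/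
def kerProdMapEquiv (σ₁ : Γ₁ →* Q₁) (σ₂ : Γ₂ →* Q₂) :
    (MonoidHom.prodMap σ₁ σ₂).ker ≃* σ₁.ker × σ₂.ker where
  toFun k := (⟨k.1.1, MonoidHom.mem_ker.2 (congrArg Prod.fst (MonoidHom.mem_ker.1 k.2))⟩,
    ⟨k.1.2, MonoidHom.mem_ker.2 (congrArg Prod.snd (MonoidHom.mem_ker.1 k.2))⟩)
  invFun p := ⟨(p.1.1, p.2.1), MonoidHom.mem_ker.2
    (Prod.ext (MonoidHom.mem_ker.1 p.1.2) (MonoidHom.mem_ker.1 p.2.2))⟩
  left_inv _ := rfl
  right_inv _ := rfl
  map_mul' _ _ := rfl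

end assemble

end Cfsg.Agent.H41
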