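import Mathlib
import Cfsg.Prelude.Def_KGroupFacts
import Cfsg.Agent.H41.Stem
import Cfsg.Agent.H41.Metacyclic
import Cfsg.Agent.H41.ProdMult
import Cfsg.Agent.H41.SchurCover2

/-!
# Local criteria for the vanishing of stem kernels (helper41)

* `Meta.central_core`: the metacyclic analysis for arbitrary central extensions;
* `noStem_of_semidihedral`: semidihedral groups of order `16` have trivial multiplier;
* `noStem_of_central_cyclic`: a central cyclic subgroup `⟨a⟩` with `Hom(K^ab, ⟨a⟩) = 0` can be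
  factored out;
* counting lemmas for the indices of the subgroups used.
-/

set_option autoImplicit false
set_option linter.unusedSectionVars false
set_option linter.style.haveILetI false

namespace Cfsg.Agent.H41

open Cfsg
open scoped commutatorElement

universe u

namespace Meta

/-- The metacyclic analysis for an arbitrary central extension `π : E → K` of a group generated
by `a, b` with `b a b⁻¹ = a^r`, `b^n = a^t`, `a` of order `m > 0`: the elements of
`ker π ∩ E'` are powers `c^k` of one element `c` with `c^m = c^S = c^t = 1`, and `m ∣ (r-1) k`. -/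
theorem central_core {K E : Type*} [Group K] [Group E] (σ : E →* K)
    (hs : Function.Surjective σ) (hc : σ.ker ≤ Subgroup.center E) (a b : K)
    (hgen : Subgroup.closure {a, b} = ⊤) (m n r t : ℕ) (hm : 0 < m)
    (hr : 0 < r) (ha : orderOf a = m) (hab : b * a * b⁻¹ = a ^ r) (hb : b ^ n = a ^ t) :
    ∃ c : E, c ^ m = 1 ∧ c ^ (∑ i ∈ Finset.range n, r ^ i) = 1 ∧ c ^ t = 1 ∧
      ∀ z ∈ σ.ker ⊓ commutator E, ∃ k : ℤ, z = c ^ k ∧ (m : ℤ) ∣ ((r - 1 : ℕ) : ℤ) * k := by
  obtain ⟨A, hA⟩ := hs a
  obtain ⟨B, hB⟩ := hs b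
  obtain ⟨ζ, hζdef⟩ : ∃ ζ, ζ = B * A * B⁻¹ * (A ^ r)⁻¹ := ⟨_, rfl⟩
  have hζk : ζ ∈ σ.ker := by
    rw [MonoidHom.mem_ker, hζdef, map_mul, map_mul, map_mul, map_inv, map_inv, map_pow, hA, hB,
      hab, mul_inv_cancel]
  have hζ : ζ ∈ Subgroup.center E := hc hζk
  have h : B * A * B⁻¹ = ζ * A ^ r := by rw [hζdef, inv_mul_cancel_right]
  have hAm : A ^ m ∈ Subgroup.center E := by
    apply hc; rw [MonoidHom.mem_ker, map_pow, hA, ← ha, pow_orderOf_eq_one]
  have hβ : B ^ n * (A ^ t)⁻¹ ∈ Subgroup.center E := by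
    apply hc
    rw [MonoidHom.mem_ker, map_mul, map_inv, map_pow, map_pow, hA, hB, hb, mul_inv_cancel]
  have c1 : Commute B (A ^ m) := Subgroup.mem_center_iff.1 hAm B
  have c2 : Commute (B ^ n) A := by
    have e : B ^ n = (B ^ n * (A ^ t)⁻¹) * A ^ t := by rw [inv_mul_cancel_right]
    rw [e]
    exact Commute.mul_left ((Subgroup.mem_center_iff.1 hβ A).symm)
      (Commute.pow_left (Commute.refl A) t)
  have c3 : Commute B (A ^ t) := by
    have e : A ^ t = (B ^ n * (A ^ t)⁻¹)⁻¹ * B ^ n := by group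
    rw [e]
    exact Commute.mul_right (Commute.inv_right (Subgroup.mem_center_iff.1 hβ B))
      (Commute.pow_right (Commute.refl B) n)
  obtain ⟨c, hcdef⟩ : ∃ c, c = ζ * A ^ (r - 1) := ⟨_, rfl⟩
  have hc1 : c ^ m = 1 := by rw [hcdef]; exact c_pow_eq_one_of_commute A B ζ hζ r hr h m c1
  have hc2 : c ^ (∑ i ∈ Finset.range n, r ^ i) = 1 := by
    rw [hcdef]; exact c_pow_sum_eq_one A B ζ hζ r hr h n c2
  have hc3 : c ^ t = 1 := by rw [hcdef]; exact c_pow_eq_one_of_commute A B ζ hζ r hr h t c3
  have hBA : ⁅B, A⁆ = c := by rw [hcdef]; exact comm_eq_of A B ζ r hr h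
  have hAc : Commute A c := by
    rw [hcdef]
    exact Commute.mul_right (Subgroup.mem_center_iff.1 hζ A) (Commute.pow_right (Commute.refl A) _)
  have hBc : B * c * B⁻¹ = c ^ r := by
    rw [hcdef, c_pow_of A ζ hζ]
    have e : B * (ζ * A ^ (r - 1)) * B⁻¹ = ζ * (B * A ^ (r - 1) * B⁻¹) := by
      rw [← mul_assoc, Subgroup.mem_center_iff.1 hζ B]; simp only [mul_assoc]
    rw [e, conj_pow_of A B ζ hζ r h, ← mul_assoc, ← pow_succ', mul_comm r (r - 1)]
    have : r - 1 + 1 = r := by omega
    rw [this]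
  haveI hfin : Finite (Subgroup.zpowers c) := by
    have : IsOfFinOrder c := isOfFinOrder_iff_pow_eq_one.2 ⟨m, hm, hc1⟩
    exact this.finite_zpowers
  haveI hfin' : Finite ((Subgroup.zpowers c : Subgroup E) : Set E) := hfin
  -- generation modulo the centre
  have hX : Subgroup.closure {A, B} ⊔ Subgroup.center E = ⊤ := by
    rw [eq_top_iff]
    intro γ _
    have hmap : Subgroup.map σ (Subgroup.closure {A, B}) = ⊤ := by
      rw [MonoidHom.map_closure, Set.image_pair, hA, hB, hgen]
    have : σ γ ∈ Subgroup.map σ (Subgroup.closure {A, B}) := by rw [hmap]; exact Subgroup.mem_top _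
    obtain ⟨x, hx, hxγ⟩ := Subgroup.mem_map.1 this
    have hz : x⁻¹ * γ ∈ Subgroup.center E := by
      apply hc; rw [MonoidHom.mem_ker, map_mul, map_inv, hxγ, inv_mul_cancel]
    have : γ = x * (x⁻¹ * γ) := by group
    rw [this]
    exact Subgroup.mul_mem_sup hx hz
  have hnorm : (Subgroup.zpowers c).Normal := by
    rw [← Subgroup.normalizer_eq_top_iff, eq_top_iff, ← hX]
    apply sup_le
    · rw [Subgroup.closure_le]
      intro x hx
      rcases hx with rfl | hx
      · apply Subgroup.mem_normalizer_fintype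
        intro y hy
        obtain ⟨k, rfl⟩ := Subgroup.mem_zpowers_iff.1 hy
        rw [(hAc.zpow_right k).eq, mul_inv_cancel_right]; exact hy
      · rw [Set.mem_singleton_iff] at hx
        subst hx
        apply Subgroup.mem_normalizer_fintype
        intro y hy
        obtain ⟨k, rfl⟩ := Subgroup.mem_zpowers_iff.1 hy
        rw [← conj_zpow, hBc]
        exact Subgroup.zpow_mem _ (Subgroup.pow_mem _ (Subgroup.mem_zpowers c) _) _
    · exact Subgroup.center_le_normalizer _
  have hcomm : commutator E ≤ Subgroup.zpowers c := by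
    apply commutator_le_of_generators (Subgroup.zpowers c) {A, B} hX
    intro x hx y hy
    rcases hx with rfl | hx <;> rcases hy with rfl | hy
    · rw [commutatorElement_self]; exact Subgroup.one_mem _
    · rw [Set.mem_singleton_iff] at hy
      subst hy
      rw [← commutatorElement_inv, hBA]
      exact Subgroup.inv_mem _ (Subgroup.mem_zpowers c)
    · rw [Set.mem_singleton_iff] at hx
      subst hx
      rw [hBA]; exact Subgroup.mem_zpowers c
    · rw [Set.mem_singleton_iff] at hx hy
      subst hx; subst hy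
      rw [commutatorElement_self]; exact Subgroup.one_mem _
  have hσc : σ c = a ^ (r - 1) := by
    rw [hcdef, map_mul, MonoidHom.mem_ker.1 hζk, one_mul, map_pow, hA]
  refine ⟨c, hc1, hc2, hc3, ?_⟩
  rintro z ⟨hz, hz'⟩
  obtain ⟨k, hk⟩ := Subgroup.mem_zpowers_iff.1 (hcomm hz')
  refine ⟨k, hk.symm, ?_⟩
  rw [← ha, orderOf_dvd_iff_zpow_eq_one, zpow_mul, zpow_natCast, ← hσc, ← map_zpow, hk]
  exact MonoidHom.mem_ker.1 hz

end Meta

/-- Semidihedral groups of order `16` (generators `x, y` with `x` of order `8`, `y x y⁻¹ = x^3`,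
`y^2 = 1`) have trivial Schur multiplier, in the form `NoStem`. -/
theorem noStem_of_semidihedral {K : Type u} [Group K] (x y : K)
    (hgen : Subgroup.closure {x, y} = ⊤) (hx : orderOf x = 8) (hxy : y * x * y⁻¹ = x ^ 3)
    (hy : y ^ 2 = 1) : NoStem K := by
  intro E _ π hπ hc
  obtain ⟨c, -, hc2, -, hker⟩ := Meta.central_core π hπ hc x y hgen 8 2 3 0 (by norm_num)
    (by norm_num) hx hxy (by rw [hy, pow_zero])
  have hc4 : c ^ 4 = 1 := by
    have : (∑ i ∈ Finset.range 2, 3 ^ i) = 4 := by decide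
    rwa [this] at hc2
  rw [eq_bot_iff]
  intro z hz
  obtain ⟨k, rfl, hdvd⟩ := hker z hz
  have h4 : (4 : ℤ) ∣ k := by
    have h2 : ((3 - 1 : ℕ) : ℤ) = 2 := by norm_num
    rw [h2] at hdvd
    have h8 : ((8 : ℕ) : ℤ) = 2 * 4 := by norm_num
    rw [h8] at hdvd
    exact Int.dvd_of_mul_dvd_mul_left (by norm_num) hdvd
  obtain ⟨j, rfl⟩ := h4
  rw [Subgroup.mem_bot, zpow_mul]
  have : c ^ (4 : ℤ) = 1 := by exact_mod_cast hc4
  rw [this, one_zpow]


section CentralCyclic

open scoped IsMulCommutative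

/-- `g ↦ ⁅A, g⁆` as a homomorphism into the centre, when all these commutators are central. -/
def commHom {E : Type*} [Group E] (A : E) (h : ∀ g : E, ⁅A, g⁆ ∈ Subgroup.center E) :
    E →* Subgroup.center E where
  toFun g := ⟨⁅A, g⁆, h g⟩
  map_one' := Subtype.ext (commutatorElement_one_right A)
  map_mul' g g' := Subtype.ext (commutatorElement_mul_right_of_central A g g' (h g'))

/-- A central cyclic subgroup `⟨a⟩`, `a ^ m = 1`, of a group `K` generated by `a` and elements
having a power prime to `m` in `K'`, can be factored out: `NoStem (K ⧸ ⟨a⟩) → NoStem K`. -/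
theorem noStem_of_central_cyclic {K : Type u} [Group K] (a : K) (ha : a ∈ Subgroup.center K)
    (m : ℕ) (ham : a ^ m = 1) (X : Set K) (hX : Subgroup.closure X = ⊤)
    (hXm : ∀ x ∈ X, x = a ∨ ∃ n : ℕ, Nat.Coprime n m ∧ x ^ n ∈ commutator K)
    (N : Subgroup K) [N.Normal] (hN : N = Subgroup.zpowers a) (hQ : NoStem (K ⧸ N)) :
    NoStem K := by
  intro E _ π hπ hc
  obtain ⟨A, hA⟩ := hπ a
  have hcen : ∀ g : E, ⁅A, g⁆ ∈ Subgroup.center E := by
    intro g
    apply hc
    rw [MonoidHom.mem_ker, map_commutatorElement, hA, commutatorElement_eq_one_iff_mul_comm]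
    exact (Subgroup.mem_center_iff.1 ha (π g)).symm
  obtain ⟨φ, hφ⟩ : ∃ φ : E →* Subgroup.center E, ∀ g, (φ g : E) = ⁅A, g⁆ :=
    ⟨commHom A hcen, fun g => rfl⟩
  have hφker : ∀ z ∈ π.ker, φ z = 1 := by
    intro z hz
    apply Subtype.ext
    rw [hφ]
    show ⁅A, z⁆ = 1
    rw [commutatorElement_eq_one_iff_mul_comm]
    exact (Subgroup.mem_center_iff.1 (hc hz) A)
  have hφm : ∀ g, φ g ^ m = 1 := by
    intro g
    have key : ∀ k : ℕ, ⁅A ^ k, g⁆ = ⁅A, g⁆ ^ k := by
      intro k
      induction k with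
      | zero => simp
      | succ k ih =>
        rw [pow_succ, commutatorElement_mul_left_of_central _ _ _ (hcen g), ih, pow_succ]
    apply Subtype.ext
    rw [Subgroup.coe_pow, hφ, ← key]
    have : A ^ m ∈ Subgroup.center E := by
      apply hc; rw [MonoidHom.mem_ker, map_pow, hA, ham]
    show ⁅A ^ m, g⁆ = 1
    rw [commutatorElement_eq_one_iff_mul_comm]
    exact (Subgroup.mem_center_iff.1 this g).symm
  have hφcomm : commutator E ≤ φ.ker := Abelianization.commutator_subset_ker φ
  have hφtriv : ∀ g, φ g = 1 := by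
    have hle : (⊤ : Subgroup E) ≤ φ.ker := by
      have h1 : π.ker ≤ φ.ker := fun z hz => MonoidHom.mem_ker.2 (hφker z hz)
      rw [← Subgroup.comap_map_eq_self h1]
      have h2 : Subgroup.map π φ.ker = ⊤ := by
        rw [eq_top_iff, ← hX, Subgroup.closure_le]
        intro x hx
        obtain ⟨g, rfl⟩ := hπ x
        refine ⟨g, ?_, rfl⟩
        show g ∈ φ.ker
        rcases hXm _ hx with h | ⟨n, hn, hxn⟩
        · have h3 : A⁻¹ * g ∈ π.ker := by
            rw [MonoidHom.mem_ker, map_mul, map_inv, hA, h, inv_mul_cancel]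
          have e : g = A * (A⁻¹ * g) := by group
          rw [MonoidHom.mem_ker, e, map_mul, hφker _ h3, mul_one]
          apply Subtype.ext
          rw [hφ, commutatorElement_self]; rfl
        · have h3 : π g ^ n ∈ Subgroup.map π (commutator E) := by
            rw [map_commutator_of_surjective π hπ]; exact hxn
          obtain ⟨w, hw, hwg⟩ := h3
          have h4 : w⁻¹ * g ^ n ∈ π.ker := by
            rw [MonoidHom.mem_ker, map_mul, map_inv, map_pow, hwg, inv_mul_cancel]
          have h5 : φ g ^ n = 1 := by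
            have e : g ^ n = w * (w⁻¹ * g ^ n) := by group
            rw [← map_pow, e, map_mul, hφker _ h4, mul_one]
            exact MonoidHom.mem_ker.1 (hφcomm hw)
          rw [MonoidHom.mem_ker]
          have h6 := pow_gcd_eq_one.2 ⟨h5, hφm g⟩
          rwa [hn, pow_one] at h6
      rw [h2, Subgroup.comap_top]
    intro g
    exact MonoidHom.mem_ker.1 (hle (Subgroup.mem_top g))
  have hAcen : A ∈ Subgroup.center E := by
    rw [Subgroup.mem_center_iff]
    intro g
    have := congrArg Subtype.val (hφtriv g)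
    rw [hφ] at this
    exact ((commutatorElement_eq_one_iff_mul_comm).1 this).symm
  have hker' : ((QuotientGroup.mk' N).comp π).ker ≤ Subgroup.center E := by
    intro g hg
    rw [MonoidHom.mem_ker, MonoidHom.comp_apply, QuotientGroup.mk'_apply,
      QuotientGroup.eq_one_iff, hN] at hg
    obtain ⟨k, hk⟩ := Subgroup.mem_zpowers_iff.1 hg
    have h1 : (A ^ k)⁻¹ * g ∈ π.ker := by
      rw [MonoidHom.mem_ker, map_mul, map_inv, map_zpow, hA, hk, inv_mul_cancel]
    have e : g = A ^ k * ((A ^ k)⁻¹ * g) := by group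
    rw [e]
    exact Subgroup.mul_mem _ (Subgroup.zpow_mem _ hAcen k) (hc h1)
  have key := hQ E ((QuotientGroup.mk' N).comp π) ((QuotientGroup.mk'_surjective N).comp hπ) hker'
  rw [eq_bot_iff, ← key]
  apply inf_le_inf_right
  intro g hg
  rw [MonoidHom.mem_ker] at hg ⊢
  rw [MonoidHom.comp_apply, hg, map_one]

end CentralCyclic

section Counting

theorem not_dvd_index_of_pow_dvd_card {G : Type*} [Group G] [Finite G] (H : Subgroup G) (p k : ℕ)
    (hH : p ^ k ∣ Nat.card H) (hG : ¬ p ^ (k + 1) ∣ Nat.card G) : ¬ p ∣ H.index := by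
  intro h
  apply hG
  rw [← Subgroup.card_mul_index H, pow_succ]
  exact Nat.mul_dvd_mul hH h

/-- A prime whose square does not divide the group order is handled by a cyclic subgroup. -/
theorem exists_noStemIn_zpowers {G : Type u} [Group G] [Finite G] (p : ℕ) [Fact p.Prime]
    (h : ¬ p ^ 2 ∣ Nat.card G) : ∃ H : Subgroup G, NoStemIn G H ∧ ¬ p ∣ H.index := by
  by_cases hp : p ∣ Nat.card G
  · obtain ⟨x, hx⟩ := exists_prime_orderOf_dvd_card' p hp
    refine ⟨Subgroup.zpowers x, (noStem_of_isCyclic _).noStemIn _, ?_⟩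
    apply not_dvd_index_of_pow_dvd_card _ p 1 _ h
    rw [Nat.card_zpowers, hx, pow_one]
  · refine ⟨Subgroup.zpowers (1 : G), (noStem_of_isCyclic _).noStemIn _, ?_⟩
    intro h1
    exact hp (h1.trans (Subgroup.index_dvd_card _))

theorem pow_succ_dvd_card_of_ne {G : Type*} [Group G] [Finite G] {p : ℕ} [Fact p.Prime]
    {H P : Subgroup G} (hP : IsPGroup p P) (hle : H ≤ P) (hne : H ≠ P) (j : ℕ)
    (hH : Nat.card H = p ^ j) : p ^ (j + 1) ∣ Nat.card P := by
  obtain ⟨n, hn⟩ := IsPGroup.iff_card.1 hP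
  rw [hn]
  apply pow_dvd_pow
  by_contra hlt
  push Not at hlt
  have h1 : Nat.card P ≤ Nat.card H := by
    rw [hn, hH]
    exact Nat.pow_le_pow_right (Fact.out : p.Prime).pos (by omega)
  exact hne (Subgroup.eq_of_le_of_card_ge hle h1)

/-- The closure of two commuting elements of exponent `p` is a `p`-group. -/
theorem isPGroup_closure_pair_of_commute {G : Type*} [Group G] (p : ℕ) (a b : G)
    (hab : a * b = b * a) (ha : a ^ p = 1) (hb : b ^ p = 1) :
    IsPGroup p (Subgroup.closure {a, b}) := by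
  have hcomm : ∀ x ∈ ({a, b} : Set G), ∀ y ∈ ({a, b} : Set G), x * y = y * x := by
    rintro x (rfl | rfl) y (rfl | rfl)
    · rfl
    · exact hab
    · exact hab.symm
    · rfl
  have hc := (Subgroup.isMulCommutative_closure hcomm).is_comm.comm
  have key : ∀ g (hg : g ∈ Subgroup.closure {a, b}), g ^ p = 1 := by
    intro g hg
    induction hg using Subgroup.closure_induction with
    | mem x hx =>
      rcases hx with rfl | rfl
      · exact ha
      · exact hb
    | one => exact one_pow p
    | mul x y hx hy ihx ihy =>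
      have h1 : x * y = y * x := congrArg Subtype.val (hc ⟨x, hx⟩ ⟨y, hy⟩)
      have h2 : Commute x y := h1
      rw [h2.mul_pow, ihx, ihy, one_mul]
    | inv x hx ihx => rw [inv_pow, ihx, inv_one]
  intro g
  exact ⟨1, by rw [pow_one]; exact Subtype.ext (key g.1 g.2)⟩

end Counting

end Cfsg.Agent.H41
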