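import Mathlib
import Cfsg.Prelude.Def_KGroupFacts
import Cfsg.Agent.H41.LocalStem
import Cfsg.Agent.H88.M11Fus

/-!
# The Schur multiplier of `M₁₁` is trivial (helper41)

For the prime `2` we use the semidihedral subgroup `⟨a, b⟩` of order `16` found by helper88
(`H88/M11Fus`); for the prime `3` a subgroup `⟨a, b, t⟩ ≅ C₃ × S₃`; the primes `5` and `11`
divide the order `7920` only once.
-/

set_option autoImplicit false
set_option linter.unusedSectionVars false
set_option linter.style.haveILetI false

namespace Cfsg.Agent.H41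

open Cfsg
open scoped commutatorElement

universe u

theorem normal_zpowers_of_mem_center {K : Type*} [Group K] {a : K}
    (ha : a ∈ Subgroup.center K) : (Subgroup.zpowers a).Normal := by
  constructor
  intro n hn g
  obtain ⟨k, rfl⟩ := Subgroup.mem_zpowers_iff.1 hn
  have hc : Commute g (a ^ k) := Commute.zpow_right (Subgroup.mem_center_iff.1 ha g) k
  rw [hc.eq, mul_inv_cancel_right]
  exact Subgroup.zpow_mem _ (Subgroup.mem_zpowers a) k

/-- Groups of type `C_m × D_{2n}` (`m`, `n` odd; generators `a` central with `a^m = 1`, and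
`b, t` with `t b t⁻¹ = b⁻¹`, `t² = 1`, `b^n = 1`) have trivial multiplier, in the form `NoStem`. -/
theorem noStem_of_cyclic_mul_dihedral_odd {K : Type u} [Group K] (a b t : K)
    (hgen : Subgroup.closure {a, b, t} = ⊤) (hab : a * b = b * a) (hat : a * t = t * a)
    (m n : ℕ) (hm : Odd m) (hn : Odd n) (ham : a ^ m = 1) (hbn : b ^ n = 1) (ht : t ^ 2 = 1)
    (hinv : t * b * t⁻¹ = b⁻¹) : NoStem K := by
  have ha : a ∈ Subgroup.center K := by
    rw [Subgroup.mem_center_iff]
    have hle : Subgroup.closure {a, b, t} ≤ Subgroup.centralizer {a} := by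
      rw [Subgroup.closure_le]
      rintro x (rfl | rfl | rfl)
      · exact Subgroup.mem_centralizer_iff.2 (fun h hh => by rw [Set.mem_singleton_iff.1 hh])
      · exact Subgroup.mem_centralizer_iff.2 (fun h hh => by rw [Set.mem_singleton_iff.1 hh, hab])
      · exact Subgroup.mem_centralizer_iff.2 (fun h hh => by rw [Set.mem_singleton_iff.1 hh, hat])
    intro g
    have hg : g ∈ Subgroup.centralizer {a} := hle (by rw [hgen]; exact Subgroup.mem_top g)
    exact (Subgroup.mem_centralizer_iff.1 hg a rfl).symm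
  haveI hnorm : (Subgroup.zpowers a).Normal := normal_zpowers_of_mem_center ha
  have h2m : Nat.Coprime 2 m := Nat.coprime_two_left.2 hm
  apply noStem_of_central_cyclic a ha m ham {a, b, t} hgen ?_ (Subgroup.zpowers a) rfl
  · -- the quotient is of odd dihedral type
    apply noStem_of_dihedralType_odd (QuotientGroup.mk' (Subgroup.zpowers a) b)
      (QuotientGroup.mk' (Subgroup.zpowers a) t)
    · have h1 : Subgroup.map (QuotientGroup.mk' (Subgroup.zpowers a))
          (Subgroup.closure {a, b, t}) = ⊤ := by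
        rw [hgen]
        exact Subgroup.map_top_of_surjective _ (QuotientGroup.mk'_surjective _)
      rw [MonoidHom.map_closure] at h1
      have h2 : (QuotientGroup.mk' (Subgroup.zpowers a)) '' {a, b, t} =
          insert 1 {QuotientGroup.mk' (Subgroup.zpowers a) b,
            QuotientGroup.mk' (Subgroup.zpowers a) t} := by
        rw [Set.image_insert_eq, Set.image_pair]
        congr 1
        rw [QuotientGroup.mk'_apply, QuotientGroup.eq_one_iff]
        exact Subgroup.mem_zpowers a
      rw [h2, Subgroup.closure_insert_one] at h1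
      exact h1
    · rw [← map_mul, ← map_inv, ← map_mul, hinv, map_inv]
    · have h1 : (QuotientGroup.mk' (Subgroup.zpowers a) b) ^ n = 1 := by
        rw [← map_pow, hbn, map_one]
      exact Odd.of_dvd_nat hn (orderOf_dvd_of_pow_eq_one h1)
  · rintro x (rfl | rfl | rfl)
    · left; rfl
    · right
      refine ⟨2, h2m, ?_⟩
      have h1 : ⁅t, x⁆ = (x ^ 2)⁻¹ := by
        rw [commutatorElement_def, hinv, pow_two, mul_inv_rev]
      have h2 : x ^ 2 = ⁅t, x⁆⁻¹ := by rw [h1, inv_inv]
      rw [h2]
      exact Subgroup.inv_mem _ (Subgroup.commutator_mem_commutator (Subgroup.mem_top _)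
        (Subgroup.mem_top _))
    · right
      refine ⟨2, h2m, ?_⟩
      rw [ht]
      exact Subgroup.one_mem _

namespace M11

open Cfsg.Agent.H9 Cfsg.Agent.H34 Cfsg.Agent.H88

/-- Packed elements of `M₁₁`: commuting elements `a3`, `b3` of order `3` and an involution `t2`
centralising `a3` and inverting `b3`. -/
def a3 : ℕ := 487607080158395075740321133224921120
def b3 : ℕ := 487655643029606470073469406179395616
def t2 : ℕ := 233233386906768391987032901617288256
def a3sq : ℕ := 928718206277989008510816407558424608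
def b3sq : ℕ := 929000492124499343650182431580424224

theorem a3_ok : okF [1, 0x5335f] a3 = true := by decide +kernel
theorem b3_ok : okF [1, 0x5335f] b3 = true := by decide +kernel
theorem t2_ok : okF [1, 0x5335f] t2 = true := by decide +kernel
theorem a3sq_ok : okF [1, 0x5335f] a3sq = true := by decide +kernel
theorem b3sq_ok : okF [1, 0x5335f] b3sq = true := by decide +kernel

theorem lperm_ne {s s' : ℕ} (hs : svalid s = true) (hs' : svalid s' = true) (i : ℕ)
    (hi : i < 24) (h : sv s i ≠ sv s' i) : lperm s ≠ lperm s' := by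
  intro he
  have h1 := gIdx_lperm hs (gPt i)
  have h2 := gIdx_lperm hs' (gPt i)
  rw [gIdx_gPt hi] at h1 h2
  rw [he, h2] at h1
  exact h h1.symm

theorem rA1 : lperm a3 * lperm a3 = lperm a3sq := by
  have := mulB_sound (okF_svalid'' a3_ok) (okF_svalid'' a3_ok) (okF_svalid'' a3sq_ok) m11I_valid
    (by decide +kernel)
  rwa [lperm_m11I, mul_one] at this

theorem rA2 : lperm a3sq * lperm a3 = 1 := by
  have := mulB_sound (okF_svalid'' a3sq_ok) (okF_svalid'' a3_ok) m11I_valid m11I_valid
    (by decide +kernel)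
  rwa [lperm_m11I, mul_one] at this

theorem rB1 : lperm b3 * lperm b3 = lperm b3sq := by
  have := mulB_sound (okF_svalid'' b3_ok) (okF_svalid'' b3_ok) (okF_svalid'' b3sq_ok) m11I_valid
    (by decide +kernel)
  rwa [lperm_m11I, mul_one] at this

theorem rB2 : lperm b3sq * lperm b3 = 1 := by
  have := mulB_sound (okF_svalid'' b3sq_ok) (okF_svalid'' b3_ok) m11I_valid m11I_valid
    (by decide +kernel)
  rwa [lperm_m11I, mul_one] at this

theorem rAB : lperm a3 * lperm b3 = lperm b3 * lperm a3 :=
  mulB_sound (okF_svalid'' a3_ok) (okF_svalid'' b3_ok) (okF_svalid'' b3_ok) (okF_svalid'' a3_ok)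
    (by decide +kernel)

theorem rT : lperm t2 * lperm t2 = 1 := by
  have := mulB_sound (okF_svalid'' t2_ok) (okF_svalid'' t2_ok) m11I_valid m11I_valid
    (by decide +kernel)
  rwa [lperm_m11I, mul_one] at this

theorem rTA : lperm a3 * lperm t2 = lperm t2 * lperm a3 :=
  mulB_sound (okF_svalid'' a3_ok) (okF_svalid'' t2_ok) (okF_svalid'' t2_ok) (okF_svalid'' a3_ok)
    (by decide +kernel)

theorem rTB : lperm t2 * lperm b3 = lperm b3sq * lperm t2 :=
  mulB_sound (okF_svalid'' t2_ok) (okF_svalid'' b3_ok) (okF_svalid'' b3sq_ok) (okF_svalid'' t2_ok)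
    (by decide +kernel)

/-- The elements in `M₁₁`. -/
noncomputable def gA : Spor.M11 := ⟨lperm a3, lperm_mem_sporM11 a3_ok⟩
noncomputable def gB : Spor.M11 := ⟨lperm b3, lperm_mem_sporM11 b3_ok⟩
noncomputable def gT : Spor.M11 := ⟨lperm t2, lperm_mem_sporM11 t2_ok⟩
noncomputable def gX : Spor.M11 := ⟨lperm m11A, lperm_mem_sporM11 m11A_ok⟩
noncomputable def gY : Spor.M11 := ⟨lperm m11B, lperm_mem_sporM11 m11B_ok⟩

instance : Finite Spor.M11 := Nat.finite_of_card_ne_zero (by rw [card_sporM11]; norm_num)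

theorem gA_pow : gA ^ 3 = 1 := by
  apply Subtype.ext
  show lperm a3 ^ 3 = 1
  rw [pow_succ, pow_two, rA1, rA2]

theorem gB_pow : gB ^ 3 = 1 := by
  apply Subtype.ext
  show lperm b3 ^ 3 = 1
  rw [pow_succ, pow_two, rB1, rB2]

theorem gA_sq : (gA ^ 2 : Spor.M11).1 = lperm a3sq := by
  show lperm a3 ^ 2 = lperm a3sq
  rw [pow_two, rA1]

theorem gA_ne : gA ≠ 1 := by
  intro h
  have h1 : lperm a3 = lperm m11I := by rw [lperm_m11I]; exact congrArg Subtype.val h
  exact lperm_ne (okF_svalid'' a3_ok) m11I_valid 3 (by norm_num) (by decide +kernel) h1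

theorem gAB : gA * gB = gB * gA := Subtype.ext rAB

theorem gAT : gA * gT = gT * gA := Subtype.ext rTA

theorem gT_sq : gT ^ 2 = 1 := by
  apply Subtype.ext
  show lperm t2 ^ 2 = 1
  rw [pow_two, rT]

theorem gTB : gT * gB * gT⁻¹ = gB⁻¹ := by
  have h1 : gB⁻¹ = gB ^ 2 := by
    rw [inv_eq_iff_mul_eq_one, ← pow_succ']
    exact gB_pow
  have h2 : gT * gB = gB ^ 2 * gT := by
    apply Subtype.ext
    show lperm t2 * lperm b3 = lperm b3 ^ 2 * lperm t2
    rw [pow_two, rB1]
    exact rTB
  rw [h1, h2, mul_inv_cancel_right]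

theorem orderOf_gA : orderOf gA = 3 := by
  haveI : Fact (Nat.Prime 3) := ⟨Nat.prime_three⟩
  exact orderOf_eq_prime gA_pow gA_ne

theorem gB_notMem : gB ∉ Subgroup.zpowers gA := by
  classical
  intro h
  rw [mem_zpowers_iff_mem_range_orderOf, orderOf_gA] at h
  have h3 : Finset.range 3 = {0, 1, 2} := by decide
  rw [h3] at h
  simp only [Finset.image_insert, Finset.image_singleton, Finset.mem_insert,
    Finset.mem_singleton, pow_zero, pow_one] at h
  rcases h with h | h | h
  · have h1 : lperm b3 = lperm m11I := by rw [lperm_m11I]; exact congrArg Subtype.val h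
    exact lperm_ne (okF_svalid'' b3_ok) m11I_valid 3 (by norm_num) (by decide +kernel) h1
  · have h1 : lperm b3 = lperm a3 := congrArg Subtype.val h
    exact lperm_ne (okF_svalid'' b3_ok) (okF_svalid'' a3_ok) 3 (by norm_num) (by decide +kernel) h1
  · have h1 : lperm b3 = lperm a3sq := by rw [← gA_sq]; exact congrArg Subtype.val h
    exact lperm_ne (okF_svalid'' b3_ok) (okF_svalid'' a3sq_ok) 3 (by norm_num)
      (by decide +kernel) h1

/-- The subgroup `⟨a, b, t⟩ ≅ C₃ × S₃`. -/
noncomputable def H3 : Subgroup Spor.M11 := Subgroup.closure {gA, gB, gT}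

theorem nine_dvd_card_H3 : 3 ^ 2 ∣ Nat.card H3 := by
  haveI : Fact (Nat.Prime 3) := ⟨Nat.prime_three⟩
  have hP : IsPGroup 3 (Subgroup.closure {gA, gB}) :=
    isPGroup_closure_pair_of_commute 3 gA gB gAB gA_pow gB_pow
  have hle : Subgroup.zpowers gA ≤ Subgroup.closure {gA, gB} := by
    rw [Subgroup.zpowers_le]
    exact Subgroup.subset_closure (by simp)
  have hne : Subgroup.zpowers gA ≠ Subgroup.closure {gA, gB} := by
    intro h
    apply gB_notMem
    rw [h]
    exact Subgroup.subset_closure (by simp)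
  have h1 := pow_succ_dvd_card_of_ne hP hle hne 1 (by rw [Nat.card_zpowers, orderOf_gA, pow_one])
  have h2 : Subgroup.closure {gA, gB} ≤ H3 := by
    apply Subgroup.closure_mono
    intro x hx
    rcases hx with rfl | rfl
    · simp
    · simp
  exact h1.trans (Subgroup.card_dvd_of_le h2)

theorem index_H3 : ¬ 3 ∣ H3.index := by
  apply not_dvd_index_of_pow_dvd_card H3 3 2 nine_dvd_card_H3
  rw [card_sporM11]
  norm_num

theorem noStem_H3 : NoStem H3 := by
  have hA : gA ∈ H3 := Subgroup.subset_closure (by simp)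
  have hB : gB ∈ H3 := Subgroup.subset_closure (by simp)
  have hT : gT ∈ H3 := Subgroup.subset_closure (by simp)
  apply noStem_of_cyclic_mul_dihedral_odd (⟨gA, hA⟩ : H3) ⟨gB, hB⟩ ⟨gT, hT⟩ ?_
    (Subtype.ext gAB) (Subtype.ext gAT) 3 3 (by decide) (by decide) (Subtype.ext gA_pow)
    (Subtype.ext gB_pow) (Subtype.ext gT_sq) (Subtype.ext gTB)
  have h := Subgroup.closure_closure_coe_preimage (k := ({gA, gB, gT} : Set Spor.M11))
  have e : ((↑) : Subgroup.closure ({gA, gB, gT} : Set Spor.M11) → Spor.M11) ⁻¹' {gA, gB, gT} =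
      {(⟨gA, hA⟩ : H3), ⟨gB, hB⟩, ⟨gT, hT⟩} := by
    ext x
    constructor
    · intro hx
      rcases hx with h | h | h
      · exact Or.inl (Subtype.ext h)
      · exact Or.inr (Or.inl (Subtype.ext h))
      · exact Or.inr (Or.inr (Subtype.ext h))
    · intro hx
      rcases hx with h | h | h
      · exact Or.inl (congrArg Subtype.val h)
      · exact Or.inr (Or.inl (congrArg Subtype.val h))
      · exact Or.inr (Or.inr (congrArg Subtype.val h))
  rw [e] at h
  exact h

/-! ### The Sylow `2`-subgroup -/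

theorem sdRel : SDRel gX gY := by
  refine ⟨?_, ?_, ?_, ?_⟩
  · apply Subtype.ext
    rw [Subgroup.coe_pow, Subgroup.coe_one]
    exact m11_pow8
  · intro h
    have h1 := congrArg Subtype.val h
    rw [Subgroup.coe_pow, Subgroup.coe_one] at h1
    exact m11A4_ne_one (by rw [← m11_pow4]; exact h1)
  · apply Subtype.ext
    rw [Subgroup.coe_mul, Subgroup.coe_one]
    exact m11_rel5
  · apply Subtype.ext
    rw [Subgroup.coe_mul, Subgroup.coe_mul, Subgroup.coe_pow]
    show lperm m11B * lperm m11A = lperm m11A ^ 3 * lperm m11B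
    rw [m11_pow3]
    exact m11_rel6

end M11

/-- The closure of a semidihedral pair in a finite group is a `2`-group. -/
theorem isPGroup_closure_of_sdRel {G : Type*} [Group G] [Finite G] {a b : G}
    (h : Cfsg.Agent.H88.SDRel a b) : IsPGroup 2 (Subgroup.closure {a, b}) := by
  haveI : Fact (Nat.Prime 2) := ⟨Nat.prime_two⟩
  have hA : IsPGroup 2 (Subgroup.zpowers a) := by
    apply IsPGroup.of_card (n := 3)
    rw [Nat.card_zpowers, h.orderOf_a]
    norm_num
  have hB : IsPGroup 2 (Subgroup.zpowers b) := by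
    have hb : orderOf b ∣ 2 := orderOf_dvd_of_pow_eq_one (by rw [pow_two, h.b2])
    have hcard : Nat.card (Subgroup.zpowers b) ∣ 2 ^ 1 := by rw [Nat.card_zpowers]; simpa using hb
    obtain ⟨k, -, hk⟩ := (Nat.dvd_prime_pow Nat.prime_two).1 hcard
    exact IsPGroup.of_card hk
  have hnorm : Subgroup.zpowers b ≤ Subgroup.normalizer (Subgroup.zpowers a : Set G) := by
    rw [Subgroup.zpowers_le]
    apply Subgroup.mem_normalizer_fintype
    intro x hx
    obtain ⟨k, rfl⟩ := Subgroup.mem_zpowers_iff.1 hx
    have h2 : b * a * b⁻¹ = a ^ 3 := by rw [h.ba]; group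
    rw [← conj_zpow, h2]
    exact Subgroup.zpow_mem _ (Subgroup.pow_mem _ (Subgroup.mem_zpowers a) 3) k
  have hBA := IsPGroup.to_sup_of_normal_right' hB hA hnorm
  apply hBA.to_le
  rw [Subgroup.closure_le]
  rintro x (rfl | rfl)
  · exact Subgroup.mem_sup_right (Subgroup.mem_zpowers _)
  · exact Subgroup.mem_sup_left (Subgroup.mem_zpowers _)

/-- The closure of a semidihedral pair has order divisible by `16`. -/
theorem sixteen_dvd_card_closure_of_sdRel {G : Type*} [Group G] [Finite G] {a b : G}
    (h : Cfsg.Agent.H88.SDRel a b) : 2 ^ 4 ∣ Nat.card (Subgroup.closure {a, b}) := by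
  haveI : Fact (Nat.Prime 2) := ⟨Nat.prime_two⟩
  have hle : Subgroup.zpowers a ≤ Subgroup.closure {a, b} := by
    rw [Subgroup.zpowers_le]
    exact Subgroup.subset_closure (by simp)
  have hne : Subgroup.zpowers a ≠ Subgroup.closure {a, b} := by
    intro h1
    apply h.b_notMem
    rw [h1]
    exact Subgroup.subset_closure (by simp)
  exact pow_succ_dvd_card_of_ne (isPGroup_closure_of_sdRel h) hle hne 3
    (by rw [Nat.card_zpowers, h.orderOf_a]; norm_num)

/-- The closure of a semidihedral pair has trivial multiplier. -/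
theorem noStem_closure_of_sdRel {G : Type u} [Group G] {a b : G}
    (h : Cfsg.Agent.H88.SDRel a b) : NoStem (Subgroup.closure {a, b}) := by
  have hA : a ∈ Subgroup.closure {a, b} := Subgroup.subset_closure (by simp)
  have hB : b ∈ Subgroup.closure {a, b} := Subgroup.subset_closure (by simp)
  apply noStem_of_semidihedral (⟨a, hA⟩ : Subgroup.closure {a, b}) ⟨b, hB⟩
  · have h1 := Subgroup.closure_closure_coe_preimage (k := ({a, b} : Set G))
    have e : ((↑) : Subgroup.closure ({a, b} : Set G) → G) ⁻¹' {a, b} =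
        {(⟨a, hA⟩ : Subgroup.closure {a, b}), ⟨b, hB⟩} := by
      ext x
      constructor
      · intro hx
        rcases hx with h | h
        · exact Or.inl (Subtype.ext h)
        · exact Or.inr (Subtype.ext h)
      · intro hx
        rcases hx with h | h
        · exact Or.inl (congrArg Subtype.val h)
        · exact Or.inr (congrArg Subtype.val h)
    rw [e] at h1
    exact h1
  · rw [Subgroup.orderOf_mk]
    exact h.orderOf_a
  · apply Subtype.ext
    show b * a * b⁻¹ = a ^ 3
    rw [h.ba]; group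
  · apply Subtype.ext
    show b ^ 2 = 1
    rw [pow_two, h.b2]

namespace M11

open Cfsg.Agent.H9 Cfsg.Agent.H34 Cfsg.Agent.H88

theorem m11_hasCyclicSchurMultiplier_one : HasCyclicSchurMultiplier Spor.M11 1 := by
  apply hasCyclicSchurMultiplier_one_of_ker
  intro Γ _ _ σ hσ
  apply stem_ker_eq_bot _ Γ σ hσ
  intro r hr
  haveI : Fact r.Prime := ⟨hr⟩
  by_cases h2 : r = 2
  · subst h2
    refine ⟨Subgroup.closure {gX, gY}, (noStem_closure_of_sdRel sdRel).noStemIn _, ?_⟩
    apply not_dvd_index_of_pow_dvd_card _ 2 4 (sixteen_dvd_card_closure_of_sdRel sdRel)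
    rw [card_sporM11]
    norm_num
  by_cases h3 : r = 3
  · subst h3
    exact ⟨H3, noStem_H3.noStemIn _, index_H3⟩
  · apply exists_noStemIn_zpowers r
    rw [card_sporM11]
    intro hdvd
    have h1 : r ∣ 7920 := (dvd_pow_self r two_ne_zero).trans hdvd
    have h7920 : (7920 : ℕ) = 2 ^ 4 * 3 ^ 2 * 5 * 11 := by norm_num
    rw [h7920] at h1
    rcases (Nat.Prime.dvd_mul hr).1 h1 with h1 | h1
    · rcases (Nat.Prime.dvd_mul hr).1 h1 with h1 | h1
      · rcases (Nat.Prime.dvd_mul hr).1 h1 with h1 | h1
        · exact h2 ((Nat.prime_dvd_prime_iff_eq hr Nat.prime_two).1 (hr.dvd_of_dvd_pow h1))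
        · exact h3 ((Nat.prime_dvd_prime_iff_eq hr Nat.prime_three).1 (hr.dvd_of_dvd_pow h1))
      · have h5 : r = 5 := (Nat.prime_dvd_prime_iff_eq hr (by norm_num)).1 h1
        subst h5
        revert hdvd
        norm_num
    · have h11 : r = 11 := (Nat.prime_dvd_prime_iff_eq hr (by norm_num)).1 h1
      subst h11
      revert hdvd
      norm_num

end M11

end Cfsg.Agent.H41
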